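import Groth.Prelude.Def_EtLim
import Groth.Agent.EtSh.Stalks

/-!
# Direct images to the stages of a limit: transition isomorphisms on sections
-/

noncomputable section

set_option autoImplicit false
set_option backward.isDefEq.respectTransparency.types false

universe u

open CategoryTheory CategoryTheory.Limits AlgebraicGeometry Opposite

namespace Groth.Agent.EtLimLib

variable {X Y Z : Scheme.{u}}

/-- `f_* ≅ g_* h_*` for `f = h ≫ g`, in the form used by `EtLim.HpushTrans` -/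
abbrev θIso {g : Y ⟶ Z} {h : X ⟶ Y} {f : X ⟶ Z} (w : h ≫ g = f) :
    EtCoh.push f ≅ EtCoh.push h ⋙ EtCoh.push g :=
  EtCoh.pushCongr w.symm ≪≫ (EtCoh.pushComp g h).symm

/-- the comparison of the two base changes of an étale `Z`-scheme -/
def bcHom {g : Y ⟶ Z} {h : X ⟶ Y} {f : X ⟶ Z} (w : h ≫ g = f) (V : Z.Etale) :
    (EtCoh.bc h).obj ((EtCoh.bc g).obj V) ⟶ (EtCoh.bc f).obj V :=
  (MorphismProperty.Over.pullbackComp (P := EtCoh.etaleMP) (Q := ⊤) h g).inv.app V ≫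
    (MorphismProperty.Over.pullbackCongr (P := EtCoh.etaleMP) (Q := ⊤) w.symm).inv.app V

theorem θIso_app {g : Y ⟶ Z} {h : X ⟶ Y} {f : X ⟶ Z} (w : h ≫ g = f) (Q : EtCoh.Ab X) (V : Z.Etale)
    (q : EtCoh.sect Q ((EtCoh.bc f).obj V)) :
    ((θIso w).hom.app Q).hom.app (op V) q = Q.obj.map (bcHom w V).op q := by
  rw [bcHom, op_comp, Q.obj.map_comp]
  rfl

theorem bcHom_fst {g : Y ⟶ Z} {h : X ⟶ Y} {f : X ⟶ Z} (w : h ≫ g = f) (V : Z.Etale) :
    (bcHom w V).left ≫ pullback.fst V.hom f =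
      pullback.fst (pullback.snd V.hom g) h ≫ pullback.fst V.hom g := by
  let e := (MorphismProperty.Over.pullbackComp (P := EtCoh.etaleMP) (Q := ⊤) h g).app V
  let e' := (MorphismProperty.Over.pullbackCongr (P := EtCoh.etaleMP) (Q := ⊤) w.symm).app V
  have h1 := MorphismProperty.Over.pullbackComp_left_fst_fst (P := EtCoh.etaleMP) (Q := ⊤) h g V
  have h2 : e'.hom.left ≫ pullback.fst V.hom (h ≫ g) = pullback.fst V.hom f :=
    MorphismProperty.Over.pullbackCongr_hom_app_left_fst (P := EtCoh.etaleMP) (Q := ⊤) w.symm V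
  let E := (Scheme.Etale.forget X ⋙ Over.forget X).mapIso e
  let E' := (Scheme.Etale.forget X ⋙ Over.forget X).mapIso e'
  have h3 : e'.inv.left ≫ pullback.fst V.hom f = pullback.fst V.hom (h ≫ g) := (Iso.inv_comp_eq E').2 h2.symm
  have h4 : e.inv.left ≫ pullback.fst V.hom (h ≫ g) = pullback.fst (pullback.snd V.hom g) h ≫ pullback.fst V.hom g :=
    (Iso.inv_comp_eq E).2 h1.symm
  exact (Category.assoc _ _ _).trans ((congrArg (e.inv.left ≫ ·) h3).trans h4)

section Assoc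

variable {W : Scheme.{u}} {g : Y ⟶ Z} {h : X ⟶ Y} {k : W ⟶ X} {f : W ⟶ Z} {hg : X ⟶ Z} {kh : W ⟶ Y}
  (w₁ : kh ≫ g = f) (w₂ : k ≫ h = kh) (w₃ : k ≫ hg = f) (w₄ : h ≫ g = hg)

theorem bcHom_assoc (V : Z.Etale) :
    bcHom w₂ ((EtCoh.bc g).obj V) ≫ bcHom w₁ V = (EtCoh.bc k).map (bcHom w₄ V) ≫ bcHom w₃ V := by
  refine MorphismProperty.Over.Hom.ext (pullback.hom_ext ?_ ?_)
  · refine (Category.assoc _ _ _).trans ((congrArg ((bcHom w₂ _).left ≫ ·) (bcHom_fst w₁ V)).trans ?_)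
    refine Eq.trans ?_ ((Category.assoc _ _ _).trans
      (congrArg (((EtCoh.bc k).map (bcHom w₄ V)).left ≫ ·) (bcHom_fst w₃ V))).symm
    refine (Category.assoc _ _ _).symm.trans ((congrArg (· ≫ pullback.fst V.hom g)
      (bcHom_fst w₂ ((EtCoh.bc g).obj V))).trans ?_)
    refine Eq.trans ?_ ((Category.assoc _ _ _).symm.trans ((congrArg (· ≫ pullback.fst V.hom hg)
      (EtCoh.isPullback_bc_map k (bcHom w₄ V)).w).trans (Category.assoc _ _ _))).symm
    exact (Category.assoc _ _ _).trans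
      (congrArg (pullback.fst (pullback.snd (pullback.snd V.hom g) h) k ≫ ·) (bcHom_fst w₄ V).symm)
  · exact (MorphismProperty.Over.w (bcHom w₂ ((EtCoh.bc g).obj V) ≫ bcHom w₁ V)).trans
      (MorphismProperty.Over.w ((EtCoh.bc k).map (bcHom w₄ V) ≫ bcHom w₃ V)).symm

theorem θIso_assoc (F : EtCoh.Ab W) :
    (θIso w₁).hom.app F ≫ (EtCoh.push g).map ((θIso w₂).hom.app F) =
      (θIso w₃).hom.app F ≫ (θIso w₄).hom.app ((EtCoh.push k).obj F) := by
  refine ObjectProperty.hom_ext _ (NatTrans.ext (funext fun V => ?_))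
  refine AddCommGrpCat.ext fun q => ?_
  obtain ⟨V⟩ := V
  refine ((congrArg (((θIso w₂).hom.app F).hom.app (op ((EtCoh.bc g).obj V))) (θIso_app w₁ F V q)).trans
    (θIso_app w₂ F _ _)).trans ?_
  refine Eq.trans ?_ ((congrArg (((θIso w₄).hom.app ((EtCoh.push k).obj F)).hom.app (op V))
    (θIso_app w₃ F V q)).trans (θIso_app w₄ ((EtCoh.push k).obj F) V _)).symm
  refine (congrArg (fun m => m q) (F.obj.map_comp (bcHom w₁ V).op (bcHom w₂ ((EtCoh.bc g).obj V)).op)).symm.trans ?_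
  refine Eq.trans ?_ (congrArg (fun m => m q)
    (F.obj.map_comp (bcHom w₃ V).op ((EtCoh.bc k).map (bcHom w₄ V)).op))
  exact congrArg (fun m => F.obj.map m.op q) (bcHom_assoc w₁ w₂ w₃ w₄ V)

end Assoc

end Groth.Agent.EtLimLib
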