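import Groth.Agent.EtLimLib.System
import Groth.Agent.LimSch.Pullback
import Groth.Prelude.Def_EtLim

/-!
# Systems coming from sheaves on the big etale site (`G_a`, `G_m`)
-/

noncomputable section

set_option autoImplicit false
set_option linter.style.haveILetI false
set_option linter.unusedSectionVars false
set_option backward.isDefEq.respectTransparency.types false

universe u

open CategoryTheory CategoryTheory.Limits AlgebraicGeometry Opposite

namespace Groth.Agent.EtLimLib

variable (P : Scheme.{u}ᵒᵖ ⥤ AddCommGrpCat.{u + 1}) (hP : Presheaf.IsSheaf Scheme.etaleTopology P)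

/-- the restriction of a sheaf on schemes to a small etale site -/
abbrev small (X : Scheme.{u}) : EtCoh.Ab X :=
  ((Scheme.Etale.forget X ⋙ Over.forget X).sheafPushforwardContinuous _ _ Scheme.etaleTopology).obj ⟨P, hP⟩

/-- pullback of sections along the projection -/
abbrev smallPush {X Y : Scheme.{u}} (u : X ⟶ Y) : small P hP Y ⟶ (EtCoh.push u).obj (small P hP X) :=
  ObjectProperty.homMk (Functor.whiskerRight (NatTrans.op (EtLim.bcProj u)) P)

theorem small_comp {X Y Z : Scheme.{u}} {g : Y ⟶ Z} {h : X ⟶ Y} {f : X ⟶ Z} (w : h ≫ g = f) :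
    smallPush P hP f ≫ (θIso w).hom.app (small P hP X) =
      smallPush P hP g ≫ (EtCoh.push g).map (smallPush P hP h) := by
  refine ObjectProperty.hom_ext _ (NatTrans.ext (funext fun V => ?_))
  obtain ⟨V⟩ := V
  refine AddCommGrpCat.ext fun r => ?_
  refine (θIso_app w (small P hP X) V _).trans ?_
  refine (congrArg (fun k => k r) (P.map_comp (pullback.fst V.hom f).op (bcHom w V).left.op)).symm.trans ?_
  refine Eq.trans ?_ (congrArg (fun k => k r)
    (P.map_comp (pullback.fst V.hom g).op (pullback.fst (pullback.snd V.hom g) h).op))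
  exact congrArg (fun k => P.map (Quiver.Hom.op k) r) (bcHom_fst w V)

variable {I : Type u} [SmallCategory I] {D : I ⥤ Scheme.{u}} (c : Cone D)

/-- the system of a sheaf on schemes -/
def bigSystem : SheafSystem c (small P hP c.pt) where
  obj i := small P hP (D.obj i)
  α a := smallPush P hP (D.map a)
  β i := smallPush P hP (c.π.app i)
  α_comp a b := small_comp P hP (D.map_comp b a).symm
  α_β a := small_comp P hP (c.w a)

/-- `P` turns cofiltered limits of qcqs schemes with affine transition maps into colimits -/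
def LimitCont : Prop :=
  ∀ {J : Type u} [SmallCategory J] [IsCofiltered J] (E : J ⥤ Scheme.{u}) (d : Cone E) (_ : IsLimit d)
    [∀ (i j : J) (a : i ⟶ j), IsAffineHom (E.map a)] [∀ j, CompactSpace (E.obj j)]
    [∀ j, QuasiSeparatedSpace (E.obj j)],
    (∀ t : P.obj (op d.pt), ∃ (j : J) (s : P.obj (op (E.obj j))), P.map (d.π.app j).op s = t) ∧
    (∀ (j : J) (s : P.obj (op (E.obj j))), P.map (d.π.app j).op s = 0 →
      ∃ (k : J) (a : k ⟶ j), P.map (E.map a).op s = 0)

variable [IsCofiltered I] (hc : IsLimit c) [∀ (i j : I) (a : i ⟶ j), IsAffineHom (D.map a)]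
  [∀ i, CompactSpace (D.obj i)] [∀ i, QuasiSeparatedSpace (D.obj i)] (hL : LimitCont P)

include hc hL in
theorem bigSystem_locSurj : (bigSystem P hP c).LocSurj := by
  intro i A hA t
  haveI : IsAffine ((𝟭 Scheme.{u}).obj A.left) := hA
  have hsq : IsPullback (pullback.snd A.hom (c.π.app i)) (pullback.fst A.hom (c.π.app i)) (c.π.app i) A.hom :=
    (IsPullback.of_hasPullback A.hom (c.π.app i)).flip
  obtain ⟨l, s, hs⟩ := (hL (LimSch.bcDiag D i A.hom) _ (LimSch.isLimitBcCone D c i A.hom hc _ _ hsq)).1 t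
  refine ⟨l.left, l.hom, P.map (pullbackSymmetry A.hom (D.map l.hom)).hom.op s, ?_⟩
  refine Eq.trans ?_ (congrArg (P.map (bcHom (c.w l.hom) A).left.op) hs)
  refine (congrArg (fun k => k s) (P.map_comp (pullbackSymmetry A.hom (D.map l.hom)).hom.op
    (pullback.fst (pullback.snd A.hom (D.map l.hom)) (c.π.app l.left)).op)).symm.trans ?_
  refine Eq.trans ?_ (congrArg (fun k => k s)
    (P.map_comp ((LimSch.bcCone D c i A.hom _ _ hsq).π.app l).op (bcHom (c.w l.hom) A).left.op))
  refine congrArg (fun k => P.map (Quiver.Hom.op k) s) (pullback.hom_ext ?_ ?_)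
  · refine (Category.assoc _ _ _).trans ((congrArg (_ ≫ ·) (pullbackSymmetry_hom_comp_fst _ _)).trans ?_)
    refine Eq.trans ?_ ((Category.assoc _ _ _).trans (congrArg (_ ≫ ·) (pullback.lift_fst _ _ _))).symm
    exact (pullback.condition (f := pullback.snd A.hom (D.map l.hom)) (g := c.π.app l.left)).trans
      ((congrArg (· ≫ c.π.app l.left) (MorphismProperty.Over.w (bcHom (c.w l.hom) A)).symm).trans (Category.assoc _ _ _))
  · refine (Category.assoc _ _ _).trans ((congrArg (_ ≫ ·) (pullbackSymmetry_hom_comp_snd _ _)).trans ?_)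
    refine Eq.trans ?_ ((Category.assoc _ _ _).trans (congrArg (_ ≫ ·) (pullback.lift_snd _ _ _))).symm
    exact (bcHom_fst (c.w l.hom) A).symm

include hc hL in
theorem bigSystem_locInj : (bigSystem P hP c).LocInj := by
  intro i A hA r hr
  haveI : IsAffine ((𝟭 Scheme.{u}).obj A.left) := hA
  have hsq : IsPullback (pullback.snd A.hom (c.π.app i)) (pullback.fst A.hom (c.π.app i)) (c.π.app i) A.hom :=
    (IsPullback.of_hasPullback A.hom (c.π.app i)).flip
  let o : Over i := Over.mk (𝟙 i)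
  let s : P.obj (op ((LimSch.bcDiag D i A.hom).obj o)) := P.map ((LimSch.bcSnd D i A.hom).app o).op r
  have h0 : P.map ((LimSch.bcCone D c i A.hom _ _ hsq).π.app o).op s = 0 := by
    refine (congrArg (fun k => k r) (P.map_comp ((LimSch.bcSnd D i A.hom).app o).op
      ((LimSch.bcCone D c i A.hom _ _ hsq).π.app o).op)).symm.trans ?_
    refine Eq.trans ?_ hr
    exact congrArg (fun k => P.map (Quiver.Hom.op k) r) (pullback.lift_snd _ _ _)
  obtain ⟨l, e, he⟩ := (hL (LimSch.bcDiag D i A.hom) _ (LimSch.isLimitBcCone D c i A.hom hc _ _ hsq)).2 o s h0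
  refine ⟨l.left, l.hom, ?_⟩
  have h1 : P.map (pullbackSymmetry A.hom (D.map l.hom)).hom.op
      (P.map ((LimSch.bcDiag D i A.hom).map e).op s) = 0 := (congrArg _ he).trans (map_zero _)
  refine Eq.trans ?_ h1
  refine Eq.trans ?_ (congrArg (P.map (pullbackSymmetry A.hom (D.map l.hom)).hom.op)
    (congrArg (fun k => k r) (P.map_comp ((LimSch.bcSnd D i A.hom).app o).op ((LimSch.bcDiag D i A.hom).map e).op)))
  refine Eq.trans ?_ (congrArg (fun k => k r) (P.map_comp
    (((LimSch.bcDiag D i A.hom).map e) ≫ (LimSch.bcSnd D i A.hom).app o).op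
      (pullbackSymmetry A.hom (D.map l.hom)).hom.op))
  refine congrArg (fun k => P.map (Quiver.Hom.op k) r) ?_
  exact ((congrArg ((pullbackSymmetry A.hom (D.map l.hom)).hom ≫ ·) (pullback.lift_snd _ _ _)).trans
    (pullbackSymmetry_hom_comp_snd _ _)).symm

theorem limitCont_ΓAdd : LimitCont EtCoh.ΓAdd.{u} := by
  intro J _ _ E d hd _ _ _
  refine ⟨fun t => ?_, fun j s hs => ?_⟩
  · obtain ⟨j, s, hs⟩ := exists_appTop_π_eq_of_isLimit E d hd t.down
    exact ⟨j, ULift.up s, congrArg ULift.up hs.symm⟩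
  · obtain ⟨k, a, ha⟩ := exists_app_map_eq_zero_of_isLimit E d hd (i := j) (U := ⊤) isCompact_univ s.down
      (congrArg ULift.down hs)
    exact ⟨k, a, congrArg ULift.up ha⟩

theorem limitCont_ΓUnits : LimitCont EtCoh.ΓUnits.{u} := by
  intro J _ _ E d hd _ _ _
  refine ⟨fun t => ?_, fun j s hs => ?_⟩
  · let v : (Γ(d.pt, ⊤))ˣ := Additive.toMul t.down
    obtain ⟨j₁, x, hx⟩ := exists_appTop_π_eq_of_isLimit E d hd (v : Γ(d.pt, ⊤))
    obtain ⟨j₂, y, hy⟩ := exists_appTop_π_eq_of_isLimit E d hd ((v⁻¹ : (Γ(d.pt, ⊤))ˣ) : Γ(d.pt, ⊤))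
    let j := IsCofiltered.min j₁ j₂
    let x' := (E.map (IsCofiltered.minToLeft j₁ j₂)).appTop x
    let y' := (E.map (IsCofiltered.minToRight j₁ j₂)).appTop y
    have e1 : (d.π.app j).appTop x' = (v : Γ(d.pt, ⊤)) :=
      ((congrArg (fun k => k x) (Scheme.Hom.comp_appTop (d.π.app j) (E.map (IsCofiltered.minToLeft j₁ j₂)))).symm.trans
        (congrArg (fun k : d.pt ⟶ E.obj j₁ => k.appTop x) (d.w _))).trans hx.symm
    have e2 : (d.π.app j).appTop y' = ((v⁻¹ : (Γ(d.pt, ⊤))ˣ) : Γ(d.pt, ⊤)) :=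
      ((congrArg (fun k => k y) (Scheme.Hom.comp_appTop (d.π.app j) (E.map (IsCofiltered.minToRight j₁ j₂)))).symm.trans
        (congrArg (fun k : d.pt ⟶ E.obj j₂ => k.appTop y) (d.w _))).trans hy.symm
    obtain ⟨k, a, ha⟩ := exists_app_map_eq_map_of_isLimit E d hd (i := j) (U := ⊤) isCompact_univ (x' * y') 1
      (by
        show (d.π.app j).appTop (x' * y') = (d.π.app j).appTop 1
        rw [map_mul, map_one, e1, e2, Units.mul_inv])
    have hk : (E.map a).appTop x' * (E.map a).appTop y' = 1 := by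
      rw [← map_mul]
      exact ha.trans (map_one _)
    let w : (Γ(E.obj k, ⊤))ˣ := Units.mkOfMulEqOne _ _ hk
    refine ⟨k, ULift.up (Additive.ofMul w), congrArg ULift.up (congrArg Additive.ofMul (Units.ext ?_))⟩
    show (d.π.app k).appTop ((E.map a).appTop x') = (v : Γ(d.pt, ⊤))
    exact ((congrArg (fun k => k x') (Scheme.Hom.comp_appTop (d.π.app k) (E.map a))).symm.trans
      (congrArg (fun k : d.pt ⟶ E.obj j => k.appTop x') (d.w a))).trans e1
  · let w : (Γ(E.obj j, ⊤))ˣ := Additive.toMul s.down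
    have h1 : (d.π.app j).appTop (w : Γ(E.obj j, ⊤)) = (d.π.app j).appTop 1 :=
      (congrArg (fun z => ((Additive.toMul z : (Γ(d.pt, ⊤))ˣ) : Γ(d.pt, ⊤))) (congrArg ULift.down hs)).trans
        (map_one _).symm
    obtain ⟨k, a, ha⟩ := exists_app_map_eq_map_of_isLimit E d hd (i := j) (U := ⊤) isCompact_univ
      (w : Γ(E.obj j, ⊤)) 1 h1
    refine ⟨k, a, congrArg ULift.up (congrArg Additive.ofMul (Units.ext ?_))⟩
    exact ha.trans (map_one _)

end Groth.Agent.EtLimLib
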