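import Groth.Agent.EtLimLib.Basic
import Groth.Agent.SiteCoh.HofAdj

/-!
# `HofPush`: degree zero, naturality, connecting maps, composition
-/

noncomputable section

set_option autoImplicit false
set_option linter.style.haveILetI false
set_option backward.isDefEq.respectTransparency.types false

universe u

open CategoryTheory CategoryTheory.Limits AlgebraicGeometry Opposite CategoryTheory.Abelian

namespace Groth.Agent.EtLimLib

set_option linter.unusedSectionVars false

variable {X Y : Scheme.{u}} (f : X ⟶ Y)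

/-- the sequence `0 → f_* F → f_* I → coker → 0` -/
abbrev pushSeq (S : ShortComplex (EtCoh.Ab X)) : ShortComplex (EtCoh.Ab Y) :=
  ShortComplex.mk ((EtCoh.push f).map S.f) (cokernel.π ((EtCoh.push f).map S.f)) (cokernel.condition _)

theorem pushSeq_shortExact {S : ShortComplex (EtCoh.Ab X)} (hS : S.ShortExact) : (pushSeq f S).ShortExact where
  exact := (pushSeq f S).exact_of_g_is_cokernel (cokernelIsCokernel _)
  mono_f :=
    haveI := hS.mono_f
    haveI : (EtCoh.push f).IsRightAdjoint := (EtCoh.pullPushAdj f).isRightAdjoint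
    (EtCoh.push f).map_mono S.f
  epi_g := inferInstanceAs (Epi (cokernel.π ((EtCoh.push f).map S.f)))

theorem map_pushSeq_zero (S : ShortComplex (EtCoh.Ab X)) :
    (EtCoh.push f).map S.f ≫ (EtCoh.push f).map S.g = 0 :=
  ((EtCoh.push f).map_comp _ _).symm.trans ((congrArg (EtCoh.push f).map S.zero).trans ((EtCoh.push f).map_zero _ _))

/-- the comparison with the direct image of the sequence -/
abbrev pushSeqHom (S : ShortComplex (EtCoh.Ab X)) : pushSeq f S ⟶ S.map (EtCoh.push f) where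
  τ₁ := 𝟙 _
  τ₂ := 𝟙 _
  τ₃ := cokernel.desc _ ((EtCoh.push f).map S.g) (map_pushSeq_zero f S)
  comm₁₂ := (Category.id_comp _).trans (Category.comp_id _).symm
  comm₂₃ := (Category.id_comp _).trans (cokernel.π_desc _ _ _).symm

variable [PreservesFiniteLimits (EtCoh.pull f)]

theorem hofPush_eq (F : EtCoh.Ab X) (n : ℕ) (x : EtCoh.H Y ((EtCoh.push f).obj F) n) :
    EtLim.HofPush f F n x = SiteCoh.adjMap (EtCoh.pullPushAdj f) (EtCore.pullConst f ℤ).symm F n x := rfl

theorem hofPush_natural {F G : EtCoh.Ab X} (α : F ⟶ G) (n : ℕ) (x : EtCoh.H Y ((EtCoh.push f).obj F) n) :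
    EtLim.HofPush f G n (Sheaf.H.map ((EtCoh.push f).map α) n x) = Sheaf.H.map α n (EtLim.HofPush f F n x) := by
  rw [Sheaf.H.map_apply, Sheaf.H.map_apply]
  exact SiteCoh.adjMap_naturality (EtCoh.pullPushAdj f) (EtCore.pullConst f ℤ).symm α n x

instance preservesFiniteLimits_push : PreservesFiniteLimits (EtCoh.push f) :=
  haveI : PreservesLimitsOfSize.{0, 0} (EtCoh.push f) := (EtCoh.pullPushAdj f).rightAdjoint_preservesLimits
  PreservesLimitsOfSize.preservesFiniteLimits.{0, 0} _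

/-- connecting maps of sequences related by a morphism `T ⟶ f_* S` -/
theorem hofPush_extClass {S : ShortComplex (EtCoh.Ab X)} (hS : S.ShortExact)
    {T : ShortComplex (EtCoh.Ab Y)} (hT : T.ShortExact) (ψ : T ⟶ S.map (EtCoh.push f))
    (n : ℕ) (x : EtCoh.H Y T.X₃ n) :
    EtLim.HofPush f S.X₁ (n + 1) (Sheaf.H.map ψ.τ₁ (n + 1) (x.comp hT.extClass rfl)) =
      (EtLim.HofPush f S.X₃ n (Sheaf.H.map ψ.τ₃ n x)).comp hS.extClass rfl := by
  let adj := EtCoh.pullPushAdj f
  let φ : T.map (EtCoh.pull f) ⟶ S :=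
    { τ₁ := (EtCoh.pull f).map ψ.τ₁ ≫ adj.counit.app _
      τ₂ := (EtCoh.pull f).map ψ.τ₂ ≫ adj.counit.app _
      τ₃ := (EtCoh.pull f).map ψ.τ₃ ≫ adj.counit.app _
      comm₁₂ := by
        refine Eq.trans (Category.assoc _ _ _) ((congrArg (_ ≫ ·) (adj.counit.naturality S.f).symm).trans ?_)
        exact (Category.assoc _ _ _).symm.trans ((congrArg (· ≫ adj.counit.app _)
          (((EtCoh.pull f).map_comp _ _).symm.trans ((congrArg (EtCoh.pull f).map ψ.comm₁₂).trans
            ((EtCoh.pull f).map_comp _ _)))).trans (Category.assoc _ _ _))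
      comm₂₃ := by
        refine Eq.trans (Category.assoc _ _ _) ((congrArg (_ ≫ ·) (adj.counit.naturality S.g).symm).trans ?_)
        exact (Category.assoc _ _ _).symm.trans ((congrArg (· ≫ adj.counit.app _)
          (((EtCoh.pull f).map_comp _ _).symm.trans ((congrArg (EtCoh.pull f).map ψ.comm₂₃).trans
            ((EtCoh.pull f).map_comp _ _)))).trans (Category.assoc _ _ _)) }
  let i := (EtCore.pullConst f ℤ).inv
  let P := fun {M : EtCoh.Ab Y} (m : ℕ) (z : EtCoh.H Y M m) =>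
    (Ext.mk₀ i).comp (z.mapExactFunctor (EtCoh.pull f)) (zero_add m)
  have key : ∀ {M : EtCoh.Ab Y} (F : EtCoh.Ab X) (v : M ⟶ (EtCoh.push f).obj F) (m : ℕ) (z : EtCoh.H Y M m),
      EtLim.HofPush f F m (Sheaf.H.map v m z) =
        (P m z).comp (Ext.mk₀ ((EtCoh.pull f).map v ≫ adj.counit.app F)) (add_zero m) := fun {M} F v m z => by
    rw [hofPush_eq, SiteCoh.adjMap, Sheaf.H.map_apply, Ext.mapExactFunctor_comp, Ext.mapExactFunctor_mk₀,
      ← Ext.mk₀_comp_mk₀]
    simp only [P, ← Ext.comp_assoc_of_second_deg_zero]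
    exact congrArg (fun e => Ext.comp e (Ext.mk₀ (adj.counit.app F)) (add_zero m))
      (Ext.comp_assoc_of_third_deg_zero (Ext.mk₀ i) (z.mapExactFunctor (EtCoh.pull f)) (Ext.mk₀ ((EtCoh.pull f).map v))
        (zero_add m)).symm
  refine ((key _ ψ.τ₁ (n + 1) _).trans ?_).trans (congrArg (fun e => Ext.comp e hS.extClass rfl) (key _ ψ.τ₃ n x)).symm
  have hnat : (hT.map_of_exact (EtCoh.pull f)).extClass.comp (Ext.mk₀ φ.τ₁) (add_zero 1) =
      (Ext.mk₀ φ.τ₃).comp hS.extClass (zero_add 1) :=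
    ShortComplex.ShortExact.extClass_naturality (hT.map_of_exact (EtCoh.pull f)) hS φ
  have h2 : P (n + 1) (x.comp hT.extClass rfl) = (P n x).comp (hT.map_of_exact (EtCoh.pull f)).extClass rfl := by
    simp only [P]
    refine (congrArg (fun e => (Ext.mk₀ i).comp e (zero_add (n + 1)))
      ((Ext.mapExactFunctor_comp _ x hT.extClass rfl).trans
        (congrArg (fun e => (x.mapExactFunctor (EtCoh.pull f)).comp e rfl)
          (Ext.mapExactFunctor_extClass _ hT)))).trans ?_
    exact (Ext.comp_assoc _ _ _ (zero_add n) (rfl : n + 1 = n + 1) (by omega)).symm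
  refine (congrArg (fun e => Ext.comp e (Ext.mk₀ φ.τ₁) (add_zero (n + 1))) h2).trans ?_
  refine (Ext.comp_assoc_of_third_deg_zero _ _ _ rfl).trans ?_
  refine (congrArg (fun e => (P n x).comp e rfl) hnat).trans ?_
  exact (Ext.comp_assoc_of_second_deg_zero _ _ _ rfl).symm

/-- the section of `F` attached to a morphism from the constant sheaf -/
theorem constAdj_hofPush_zero (F : EtCoh.Ab X) (v : EtCoh.const Y ℤ ⟶ (EtCoh.push f).obj F) :
    (EtCore.constAdj X).homEquiv _ F
        ((EtCore.pullConst f ℤ).inv ≫ ((EtCoh.pullPushAdj f).homEquiv _ F).symm v) =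
      (EtCore.constAdj Y).homEquiv _ _ v ≫ (EtCore.pushGsecIso f).hom.app F := by
  let adj1 := ((EtCore.constAdj Y).comp (EtCoh.pullPushAdj f)).ofNatIsoRight (EtCore.pushGsecIso f)
  let w := ((EtCoh.pullPushAdj f).homEquiv _ F).symm v
  have h1 := Adjunction.homEquiv_leftAdjointUniq_hom_app (EtCore.constAdj X) adj1
    (AddCommGrpCat.of (ULift.{u + 1} ℤ))
  have h2 : (EtCore.constAdj X).homEquiv _ F ((EtCore.pullConst f ℤ).inv ≫ w) = adj1.homEquiv _ F w := by
    refine (Adjunction.homEquiv_naturality_right _ _ _).trans ?_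
    refine (congrArg (· ≫ (EtCore.gsec X).map w) h1).trans ?_
    exact (Adjunction.homEquiv_unit adj1 _ _ w).symm
  refine h2.trans ((Adjunction.homEquiv_ofNatIsoRight_apply _ _ _).trans ?_)
  rw [Adjunction.comp_homEquiv]
  exact congrArg (fun k : EtCoh.const Y ℤ ⟶ (EtCoh.push f).obj F =>
      ((EtCore.constAdj Y).homEquiv _ _ k : _ ⟶ (EtCoh.push f ⋙ EtCore.gsec Y).obj F) ≫
        (EtCore.pushGsecIso f).hom.app F)
    (Equiv.apply_symm_apply ((EtCoh.pullPushAdj f).homEquiv _ F) v)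

theorem equiv₀_hofPush (F : EtCoh.Ab X) (x : EtCoh.H Y ((EtCoh.push f).obj F) 0) :
    Sheaf.H.equiv₀ F (EtCore.topIsTerminal X) (EtLim.HofPush f F 0 x) =
      F.obj.map (EtCore.bcTopIso f).inv.op
        (Sheaf.H.equiv₀ ((EtCoh.push f).obj F) (EtCore.topIsTerminal Y) x) := by
  obtain ⟨v, rfl⟩ := (Ext.mk₀_bijective _ _).2 x
  have h0 : EtLim.HofPush f F 0 (Ext.mk₀ v) =
      Ext.mk₀ ((EtCore.pullConst f ℤ).inv ≫ ((EtCoh.pullPushAdj f).homEquiv _ F).symm v) := by
    rw [hofPush_eq, SiteCoh.adjMap, Ext.mapExactFunctor_mk₀, Ext.mk₀_comp_mk₀, Ext.mk₀_comp_mk₀,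
      Adjunction.homEquiv_counit, Category.assoc]
    rfl
  rw [h0]
  simp only [Sheaf.H.equiv₀, AddEquiv.trans_apply]
  exact congrArg (fun k => AddCommGrpCat.uliftZMultiplesAddEquiv _ k)
    ((congrArg ((EtCore.constAdj X).homEquiv _ F) (Ext.addEquiv₀.apply_symm_apply _)).trans
      ((constAdj_hofPush_zero f F v).trans (congrArg (fun k => (EtCore.constAdj Y).homEquiv _ _ k ≫
        (EtCore.pushGsecIso f).hom.app F) (Ext.addEquiv₀.apply_symm_apply v).symm)))

/-- `H^{n+1}(Y, f_* F)` comes from the cokernel when `I` is injective -/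
theorem exists_delta {S : ShortComplex (EtCoh.Ab X)} (hS : S.ShortExact) [Injective S.X₂] (n : ℕ)
    (ξ : EtCoh.H Y ((EtCoh.push f).obj S.X₁) (n + 1)) :
    ∃ κ : EtCoh.H Y (pushSeq f S).X₃ n, κ.comp (pushSeq_shortExact f hS).extClass rfl = ξ := by
  haveI : (EtCoh.pull f).PreservesMonomorphisms := preservesMonomorphisms_of_preservesLimitsOfShape _
  haveI : Injective (pushSeq f S).X₂ := Injective.injective_of_adjoint (EtCoh.pullPushAdj f) S.X₂
  exact Ext.covariant_sequence_exact₁ _ (pushSeq_shortExact f hS) ξ (Ext.eq_zero_of_injective _) rfl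

theorem hofPush_delta {S : ShortComplex (EtCoh.Ab X)} (hS : S.ShortExact) (n : ℕ)
    (κ : EtCoh.H Y (pushSeq f S).X₃ n) :
    EtLim.HofPush f S.X₁ (n + 1) (κ.comp (pushSeq_shortExact f hS).extClass rfl) =
      (EtLim.HofPush f S.X₃ n (Sheaf.H.map (pushSeqHom f S).τ₃ n κ)).comp hS.extClass rfl := by
  refine Eq.trans ?_ (hofPush_extClass f hS (pushSeq_shortExact f hS) (pushSeqHom f S) n κ)
  exact congrArg (EtLim.HofPush f S.X₁ (n + 1)) (Sheaf.H.map_id_apply (κ.comp (pushSeq_shortExact f hS).extClass rfl)).symm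

section Comp

set_option linter.unusedSectionVars false

variable {Z : Scheme.{u}} {g : Y ⟶ Z} {h : X ⟶ Y} {t : X ⟶ Z} (w : h ≫ g = t)

theorem transHom_condition (S : ShortComplex (EtCoh.Ab X)) :
    (EtCoh.push t).map S.f ≫ (θIso w).hom.app S.X₂ ≫
      (EtCoh.push g).map (cokernel.π ((EtCoh.push h).map S.f)) = 0 := by
  refine ((Category.assoc _ _ _).symm.trans ((congrArg (· ≫ _) ((θIso w).hom.naturality S.f)).trans
    (Category.assoc _ _ _))).trans ?_
  exact (congrArg ((θIso w).hom.app S.X₁ ≫ ·)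
    (((EtCoh.push g).map_comp _ _).symm.trans
      ((congrArg (EtCoh.push g).map (cokernel.condition ((EtCoh.push h).map S.f))).trans
        ((EtCoh.push g).map_zero _ _)))).trans comp_zero

/-- transition map between the sequences at two stages -/
abbrev transHom (S : ShortComplex (EtCoh.Ab X)) : pushSeq t S ⟶ (pushSeq h S).map (EtCoh.push g) where
  τ₁ := (θIso w).hom.app S.X₁
  τ₂ := (θIso w).hom.app S.X₂
  τ₃ := cokernel.desc _ ((θIso w).hom.app S.X₂ ≫ (EtCoh.push g).map (cokernel.π ((EtCoh.push h).map S.f)))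
    (transHom_condition w S)
  comm₁₂ := ((θIso w).hom.naturality S.f).symm
  comm₂₃ := (cokernel.π_desc _ _ _).symm

theorem transHom_τ₃_desc (S : ShortComplex (EtCoh.Ab X)) :
    (transHom w S).τ₃ ≫ (EtCoh.push g).map (pushSeqHom h S).τ₃ = (pushSeqHom t S).τ₃ ≫ (θIso w).hom.app S.X₃ := by
  refine (cancel_epi (cokernel.π ((EtCoh.push t).map S.f))).1 ?_
  refine ((Category.assoc _ _ _).symm.trans ((congrArg (· ≫ _) (cokernel.π_desc _ _ _)).trans ?_)).trans
    (((Category.assoc _ _ _).symm.trans (congrArg (· ≫ (θIso w).hom.app S.X₃) (cokernel.π_desc _ _ _)))).symm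
  refine (Category.assoc _ _ _).trans ?_
  refine (congrArg ((θIso w).hom.app S.X₂ ≫ ·) (((EtCoh.push g).map_comp _ _).symm.trans
    (congrArg (EtCoh.push g).map (cokernel.π_desc _ _ _)))).trans ?_
  exact ((θIso w).hom.naturality S.g).symm

variable [PreservesFiniteLimits (EtCoh.pull g)] [PreservesFiniteLimits (EtCoh.pull h)]
  [PreservesFiniteLimits (EtCoh.pull t)]

omit [PreservesFiniteLimits (EtCoh.pull h)] [PreservesFiniteLimits (EtCoh.pull t)] in
theorem hpushTrans_eq (F : EtCoh.Ab X) (n : ℕ) (x : EtCoh.H Z ((EtCoh.push t).obj F) n) :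
    EtLim.HpushTrans g h t w F n x =
      EtLim.HofPush g ((EtCoh.push h).obj F) n (Sheaf.H.map ((θIso w).hom.app F) n x) := rfl

omit [PreservesFiniteLimits (EtCoh.pull t)] in
theorem hpushTrans_delta {S : ShortComplex (EtCoh.Ab X)} (hS : S.ShortExact) (n : ℕ)
    (κ : EtCoh.H Z (pushSeq t S).X₃ n) (hT : (pushSeq t S).ShortExact) :
    EtLim.HpushTrans g h t w S.X₁ (n + 1) (κ.comp hT.extClass rfl) =
      (EtLim.HofPush g (pushSeq h S).X₃ n (Sheaf.H.map (transHom w S).τ₃ n κ)).comp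
        (pushSeq_shortExact h hS).extClass rfl :=
  hofPush_extClass g (pushSeq_shortExact h hS) hT (transHom w S) n κ

/-- `HofPush` of a composite -/
theorem hofPush_comp : ∀ (n : ℕ) (F : EtCoh.Ab X) (x : EtCoh.H Z ((EtCoh.push t).obj F) n),
    EtLim.HofPush h F n (EtLim.HpushTrans g h t w F n x) = EtLim.HofPush t F n x := by
  intro n
  induction n with
  | zero =>
    intro F x
    apply (Sheaf.H.equiv₀ F (EtCore.topIsTerminal X)).injective
    refine (equiv₀_hofPush h F _).trans ?_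
    refine (congrArg (F.obj.map (EtCore.bcTopIso h).inv.op)
      ((equiv₀_hofPush g ((EtCoh.push h).obj F) _).trans
        (congrArg (((EtCoh.push h).obj F).obj.map (EtCore.bcTopIso g).inv.op)
          ((Sheaf.H.equiv₀_naturality (EtCore.topIsTerminal Z) ((θIso w).hom.app F) x).symm.trans
            (θIso_app w F (EtCoh.top Z) _))))).trans ?_
    refine Eq.trans ?_ (equiv₀_hofPush t F x).symm
    let q := Sheaf.H.equiv₀ ((EtCoh.push t).obj F) (EtCore.topIsTerminal Z) x
    refine (congrArg (F.obj.map (EtCore.bcTopIso h).inv.op)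
      (congrArg (fun m : F.obj.obj (op ((EtCoh.bc t).obj (EtCoh.top Z))) ⟶ _ => m q)
        (F.obj.map_comp (bcHom w (EtCoh.top Z)).op ((EtCoh.bc h).map (EtCore.bcTopIso g).inv).op)).symm).trans ?_
    refine (congrArg (fun m : F.obj.obj (op ((EtCoh.bc t).obj (EtCoh.top Z))) ⟶ _ => m q)
      (F.obj.map_comp _ (EtCore.bcTopIso h).inv.op)).symm.trans ?_
    exact congrArg (fun m => F.obj.map (Quiver.Hom.op m) (Sheaf.H.equiv₀ _ (EtCore.topIsTerminal Z) x))
      ((EtCore.bcTopIsTerminal t).hom_ext _ (EtCore.bcTopIso t).inv)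
  | succ n ih =>
    intro F ξ
    let S := ShortComplex.mk (Injective.ι F) (cokernel.π (Injective.ι F)) (cokernel.condition _)
    have hS : S.ShortExact :=
      { exact := S.exact_of_g_is_cokernel (cokernelIsCokernel _)
        mono_f := inferInstanceAs (Mono (Injective.ι F))
        epi_g := inferInstanceAs (Epi (cokernel.π (Injective.ι F))) }
    haveI : Injective S.X₂ := inferInstanceAs (Injective (Injective.under F))
    obtain ⟨κ, rfl⟩ := exists_delta t hS n ξ
    refine (congrArg (EtLim.HofPush h F (n + 1)) (hpushTrans_delta w hS n κ (pushSeq_shortExact t hS))).trans ?_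
    refine (hofPush_delta h hS n _).trans ?_
    refine Eq.trans ?_ (hofPush_delta t hS n κ).symm
    refine congrArg (fun e => Ext.comp e hS.extClass rfl) (Eq.trans ?_ (ih S.X₃ _))
    refine congrArg (EtLim.HofPush h S.X₃ n) ?_
    rw [hpushTrans_eq]
    refine (hofPush_natural g (pushSeqHom h S).τ₃ n _).symm.trans ?_
    refine congrArg (EtLim.HofPush g ((EtCoh.push h).obj S.X₃) n) ?_
    refine (Sheaf.H.map_comp_apply (transHom w S).τ₃ ((EtCoh.push g).map (pushSeqHom h S).τ₃) κ).symm.trans ?_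
    rw [transHom_τ₃_desc]
    exact Sheaf.H.map_comp_apply _ _ κ

end Comp

section Assoc

variable {W Z : Scheme.{u}} {g : Y ⟶ Z} {h : X ⟶ Y} {k : W ⟶ X} {t : W ⟶ Z} {hg : X ⟶ Z} {kh : W ⟶ Y}
  [PreservesFiniteLimits (EtCoh.pull g)] [PreservesFiniteLimits (EtCoh.pull h)]
  [PreservesFiniteLimits (EtCoh.pull hg)]

/-- transition maps compose -/
theorem hpushTrans_comp (w₁ : kh ≫ g = t) (w₂ : k ≫ h = kh) (w₃ : k ≫ hg = t) (w₄ : h ≫ g = hg)
    (F : EtCoh.Ab W) (n : ℕ) (x : EtCoh.H Z ((EtCoh.push t).obj F) n) :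
    EtLim.HpushTrans h k kh w₂ F n (EtLim.HpushTrans g kh t w₁ F n x) = EtLim.HpushTrans hg k t w₃ F n x := by
  refine Eq.trans ?_ (hofPush_comp w₄ n ((EtCoh.push k).obj F) _)
  refine (congrArg (EtLim.HofPush h ((EtCoh.push k).obj F) n) ((hofPush_natural g ((θIso w₂).hom.app F) n _).symm)).trans ?_
  refine congrArg (fun z => EtLim.HofPush h ((EtCoh.push k).obj F) n (EtLim.HofPush g ((EtCoh.push h).obj ((EtCoh.push k).obj F)) n z)) ?_
  refine (Sheaf.H.map_comp_apply _ _ x).symm.trans ?_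
  exact (congrArg (fun m => Sheaf.H.map m n x) (θIso_assoc w₁ w₂ w₃ w₄ F)).trans
    (Sheaf.H.map_comp_apply ((θIso w₃).hom.app F) ((θIso w₄).hom.app ((EtCoh.push k).obj F)) x)

end Assoc

end Groth.Agent.EtLimLib
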