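import Groth.Agent.EtLimLib.Step

/-!
# Cohomology of a limit of schemes with coefficients pushed to the stages
-/

noncomputable section

set_option autoImplicit false
set_option linter.style.haveILetI false
set_option linter.unusedSectionVars false
set_option backward.isDefEq.respectTransparency.types false

universe u

open CategoryTheory CategoryTheory.Limits AlgebraicGeometry Opposite CategoryTheory.Abelian

namespace Groth.Agent.EtLimLib

variable {I : Type u} [SmallCategory I] {D : I ⥤ Scheme.{u}} (c : Cone D)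
  [∀ i, PreservesFiniteLimits (EtCoh.pull (c.π.app i))]
  [∀ {i j : I} (a : i ⟶ j), PreservesFiniteLimits (EtCoh.pull (D.map a))]
  [IsCofiltered I] (hc : IsLimit c) [∀ (i j : I) (a : i ⟶ j), IsAffineHom (D.map a)]
  [∀ i, CompactSpace (D.obj i)] [∀ i, QuasiSeparatedSpace (D.obj i)]

include hc in
theorem zero_succ {S : ShortComplex (EtCoh.Ab c.pt)} (hS : S.ShortExact) [Injective S.X₂] [Epi S.g] (n : ℕ)
    (ih₂ : ∀ η : EtCoh.H c.pt S.X₂ n, ∃ (i : I) (x : EtCoh.H (D.obj i) ((EtCoh.push (c.π.app i)).obj S.X₂) n),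
      EtLim.HofPush (c.π.app i) S.X₂ n x = η)
    (ih₃ : ∀ (i : I) (x : EtCoh.H (D.obj i) ((EtCoh.push (c.π.app i)).obj S.X₃) n),
      EtLim.HofPush (c.π.app i) S.X₃ n x = 0 → ∃ (j : I) (a : j ⟶ i), Tr c a S.X₃ n x = 0)
    (i : I) (x : EtCoh.H (D.obj i) ((EtCoh.push (c.π.app i)).obj S.X₁) (n + 1))
    (hx : EtLim.HofPush (c.π.app i) S.X₁ (n + 1) x = 0) :
    ∃ (j : I) (a : j ⟶ i), Tr c a S.X₁ (n + 1) x = 0 := by
  obtain ⟨κ, rfl⟩ := exists_delta (c.π.app i) hS n x
  obtain ⟨l, a, d, hd, hxl⟩ := zero_step c hS n ih₂ ih₃ i κ hx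
  cases n with
  | zero =>
    refine ⟨l, a, hxl.trans ?_⟩
    exact (congrArg (fun z => Ext.comp z (pushSeq_shortExact (c.π.app l) hS).extClass rfl)
      (zero_mono c hS l d hd)).trans (Ext.zero_comp _ _ _ _ _)
  | succ q =>
    obtain ⟨y, rfl⟩ := Ext.covariant_sequence_exact₁ _ (cokSeq_shortExact c hS l) d hd rfl
    obtain ⟨e, s, hs⟩ := exists_H_kill c S.g hc l q y
    exact ⟨e, s ≫ a, (Tr_comp c a s S.X₁ (q + 1 + 1) _).symm.trans
      ((congrArg (Tr c s S.X₁ (q + 1 + 1)) hxl).trans (delta_kill c hS q s y hs _))⟩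

include hc in
theorem exists_rep_and_zero : ∀ (n : ℕ) (F : EtCoh.Ab c.pt),
    (∀ ξ : EtCoh.H c.pt F n, ∃ (i : I) (x : EtCoh.H (D.obj i) ((EtCoh.push (c.π.app i)).obj F) n),
      EtLim.HofPush (c.π.app i) F n x = ξ) ∧
    (∀ (i : I) (x : EtCoh.H (D.obj i) ((EtCoh.push (c.π.app i)).obj F) n),
      EtLim.HofPush (c.π.app i) F n x = 0 → ∃ (j : I) (a : j ⟶ i), Tr c a F n x = 0) := by
  intro n
  induction n with
  | zero =>
    intro F
    have hb := fun i => SiteCoh.adjMap_zero_bijective (EtCoh.pullPushAdj (c.π.app i))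
      (EtCore.pullConst (c.π.app i) ℤ).symm F
    obtain ⟨i₀⟩ := IsCofiltered.nonempty (C := I)
    refine ⟨fun ξ => ⟨i₀, (hb i₀).2 ξ⟩, fun i x hx => ⟨i, 𝟙 i, ?_⟩⟩
    rw [show x = 0 from (hb i).1 (hx.trans (map_zero (EtLim.HofPush (c.π.app i) F 0)).symm), map_zero]
  | succ n ih =>
    intro F
    let S := ShortComplex.mk (Injective.ι F) (cokernel.π (Injective.ι F)) (cokernel.condition _)
    have hS : S.ShortExact :=
      { exact := S.exact_of_g_is_cokernel (cokernelIsCokernel _)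
        mono_f := inferInstanceAs (Mono (Injective.ι F))
        epi_g := inferInstanceAs (Epi (cokernel.π (Injective.ι F))) }
    haveI hI : Injective S.X₂ := inferInstanceAs (Injective (Injective.under F))
    haveI := hS.epi_g
    exact ⟨rep_succ c hc hS n (ih S.X₃).1, zero_succ c hc hS n (ih S.X₂).1 (ih S.X₃).2⟩

end Groth.Agent.EtLimLib
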