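import Groth.Agent.EtLimLib.Basic
import Groth.Agent.EtSh.Gluing
import Groth.Agent.EtCechLib.PushTorsion
import Groth.Agent.LimSch.DescendCover
import Groth.Agent.LimSch.DescendsSmooth

/-!
# The cokernels at the stages die at later stages
-/

noncomputable section

set_option autoImplicit false
set_option linter.style.haveILetI false
set_option backward.isDefEq.respectTransparency.types false

universe u

open CategoryTheory CategoryTheory.Limits AlgebraicGeometry Opposite

namespace Groth.Agent.EtLimLib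

variable {I : Type u} [SmallCategory I] {D : I ⥤ Scheme.{u}} (c : Cone D)
  {M Q : EtCoh.Ab c.pt} (g : M ⟶ Q)

/-- `g` pushed to a stage -/
abbrev pushAt (i : I) : (EtCoh.push (c.π.app i)).obj M ⟶ (EtCoh.push (c.π.app i)).obj Q :=
  (EtCoh.push (c.π.app i)).map g

/-- the cokernel at a stage -/
abbrev Coker (i : I) : EtCoh.Ab (D.obj i) := cokernel (pushAt c g i)

theorem condition_φ {i j : I} (a : j ⟶ i) :
    pushAt c g i ≫ (θIso (c.w a)).hom.app Q ≫ (EtCoh.push (D.map a)).map (cokernel.π (pushAt c g j)) = 0 := by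
  refine ((Category.assoc _ _ _).symm.trans ((congrArg (· ≫ _) ((θIso (c.w a)).hom.naturality g)).trans
    (Category.assoc _ _ _))).trans ?_
  exact (congrArg ((θIso (c.w a)).hom.app M ≫ ·)
    (((EtCoh.push (D.map a)).map_comp _ _).symm.trans
      ((congrArg (EtCoh.push (D.map a)).map (cokernel.condition (pushAt c g j))).trans
        ((EtCoh.push (D.map a)).map_zero _ _)))).trans comp_zero

/-- transition map of the cokernels -/
def φ {i j : I} (a : j ⟶ i) : Coker c g i ⟶ (EtCoh.push (D.map a)).obj (Coker c g j) :=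
  cokernel.desc _ ((θIso (c.w a)).hom.app Q ≫ (EtCoh.push (D.map a)).map (cokernel.π (pushAt c g j)))
    (condition_φ c g a)

theorem π_φ {i j : I} (a : j ⟶ i) :
    cokernel.π (pushAt c g i) ≫ φ c g a =
      (θIso (c.w a)).hom.app Q ≫ (EtCoh.push (D.map a)).map (cokernel.π (pushAt c g j)) :=
  cokernel.π_desc _ _ _

theorem φ_app {i j : I} (a : j ⟶ i) (A : (D.obj i).Etale) (q : EtCoh.sect Q ((EtCoh.bc (c.π.app i)).obj A)) :
    (φ c g a).hom.app (op A) ((cokernel.π (pushAt c g i)).hom.app (op A) q) =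
      (cokernel.π (pushAt c g j)).hom.app (op ((EtCoh.bc (D.map a)).obj A))
        (Q.obj.map (bcHom (c.w a) A).op q) := by
  have h := congrArg (fun k : (EtCoh.push (c.π.app i)).obj Q ⟶ (EtCoh.push (D.map a)).obj (Coker c g j) =>
    k.hom.app (op A) q) (π_φ c g a)
  refine (Eq.trans ?_ h).trans ?_
  · rfl
  · exact congrArg ((cokernel.π (pushAt c g j)).hom.app (op ((EtCoh.bc (D.map a)).obj A)))
      (θIso_app (c.w a) Q A q)

variable [IsCofiltered I] (hc : IsLimit c) [∀ (i j : I) (a : i ⟶ j), IsAffineHom (D.map a)]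

include hc in
/-- a section of the cokernel at a stage dies at a later stage -/
theorem exists_kill [Epi g] {i : I} (A : (D.obj i).Etale) (hA : IsAffine A.left)
    (q : EtCoh.sect Q ((EtCoh.bc (c.π.app i)).obj A)) :
    ∃ (j : I) (a : j ⟶ i),
      (φ c g a).hom.app (op A) ((cokernel.π (pushAt c g i)).hom.app (op A) q) = 0 := by
  haveI := isAffineHom_π_app D c hc i
  let U := (EtCoh.bc (c.π.app i)).obj A
  let X' : Scheme.{u} := pullback A.hom (c.π.app i)
  haveI hA' : IsAffine ((𝟭 Scheme.{u}).obj A.left) := hA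
  haveI hfst : IsAffineHom (pullback.fst A.hom (c.π.app i)) := MorphismProperty.pullback_fst _ _ ‹_›
  haveI hX' : IsAffine X' := isAffine_of_isAffineHom (pullback.fst A.hom (c.π.app i))
  -- lifts on affine pieces
  have hlift : ∀ x : X', ∃ (W : c.pt.Etale) (t : W ⟶ U) (w : W.left) (r : EtCoh.sect M W),
      IsAffine W.left ∧ t.left.base w = x ∧ g.hom.app (op W) r = Q.obj.map t.op q := fun x => by
    obtain ⟨W, t, w, r, hw, hr⟩ := EtSh.exists_lift_of_epi g U q x
    obtain ⟨W', e, z, hW', hz⟩ := EtCechLib.exists_affine_over w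
    refine ⟨W', e ≫ t, z, M.obj.map e.op r, hW', ?_, ?_⟩
    · exact (congrArg t.left.base hz).trans hw
    · refine (congrArg (fun k => k r) (g.hom.naturality e.op)).trans ?_
      exact (congrArg (Q.obj.map e.op) hr).trans
        (congrArg (fun k => k q) (Q.obj.map_comp t.op e.op).symm)
  choose W t w r hW hw hr using hlift
  let uF : ∀ x, (W x).left ⟶ X' := fun x => (t x).left
  haveI hEt : ∀ x, Etale (uF x) := fun x => MorphismProperty.of_postcomp (W := EtCoh.etaleMP)
    (W' := EtCoh.etaleMP) (uF x) U.hom U.prop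
    ((MorphismProperty.Over.w (t x)).symm ▸ (W x).prop)
  haveI := hW
  haveI : ∀ x, LocallyOfFinitePresentation (uF x) := fun x => inferInstance
  haveI : ∀ x, QuasiCompact (uF x) := fun x => inferInstance
  haveI : ∀ x, QuasiSeparated (uF x) := fun x => inferInstance
  haveI : CompactSpace ((𝟭 Scheme.{u}).obj A.left) := inferInstance
  haveI : QuasiSeparatedSpace ((𝟭 Scheme.{u}).obj A.left) := inferInstance
  have hsq : IsPullback (pullback.snd A.hom (c.π.app i)) (pullback.fst A.hom (c.π.app i)) (c.π.app i) A.hom :=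
    (IsPullback.of_hasPullback A.hom (c.π.app i)).flip
  let D' := LimSch.bcDiag D i A.hom
  let c' := LimSch.bcCone D c i A.hom (pullback.snd A.hom (c.π.app i)) (pullback.fst A.hom (c.π.app i)) hsq
  let uC : ∀ x, (W x).left ⟶ c'.pt := uF
  haveI : ∀ x, LocallyOfFinitePresentation (uC x) := fun x => (inferInstance : LocallyOfFinitePresentation (uF x))
  haveI : ∀ x, QuasiCompact (uC x) := fun x => (inferInstance : QuasiCompact (uF x))
  haveI : ∀ x, QuasiSeparated (uC x) := fun x => (inferInstance : QuasiSeparated (uF x))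
  obtain ⟨l, n, V, v, idx, e, hV, hcov, he⟩ := LimSch.exists_cover_stage @Etale
    (LimSch.DescendsAff.descends LimSch.descendsAff_etale)
    (fun f _ hf => haveI : Etale f := hf; f.isOpenMap)
    D' c'
    (LimSch.isLimitBcCone D c i A.hom hc (pullback.snd A.hom (c.π.app i)) (pullback.fst A.hom (c.π.app i)) hsq)
    (Over.mk (𝟙 i)) (fun x => (W x).left) uC (fun x => hEt x) (fun x => ⟨x, w x, hw x⟩)
  let j := l.left
  let a : j ⟶ i := l.hom
  refine ⟨j, a, (φ_app c g a A q).trans ?_⟩
  let B := (EtCoh.bc (D.map a)).obj A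
  haveI : Etale A.hom := A.prop
  let v' : ∀ m, V m ⟶ pullback (D.map l.hom) A.hom := v
  haveI : ∀ m, Etale (v' m) := fun m => (hV m).1
  haveI : Etale (pullback.fst (D.map l.hom) A.hom) := MorphismProperty.pullback_fst _ _ A.prop
  let Wm : Fin n → (D.obj j).Etale := fun m => Scheme.Etale.mk (v' m ≫ pullback.fst (D.map l.hom) A.hom)
  let ω : ∀ m, Wm m ⟶ B := fun m => MorphismProperty.Over.homMk
    (v' m ≫ (pullbackSymmetry (D.map l.hom) A.hom).hom)
    ((Category.assoc _ _ _).trans (congrArg (v' m ≫ ·) (pullbackSymmetry_hom_comp_snd _ _)))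
  refine EtSh.sect_ext (Coker c g j) fun x => ?_
  obtain ⟨m, z, hz⟩ := hcov ((pullbackSymmetry (D.map l.hom) A.hom).inv x)
  refine ⟨Wm m, ω m, z, ?_, ?_⟩
  · refine (congrArg (pullbackSymmetry (D.map l.hom) A.hom).hom.base hz).trans ?_
    exact congrArg (fun k : pullback A.hom (D.map l.hom) ⟶ pullback A.hom (D.map l.hom) => k.base x)
      (pullbackSymmetry (D.map l.hom) A.hom).inv_hom_id
  refine Eq.trans ?_ (map_zero ((Coker c g j).obj.map (ω m).op).hom).symm
  let uj := c.π.app j
  let β : (EtCoh.bc uj).obj (Wm m) ⟶ U := (EtCoh.bc uj).map (ω m) ≫ bcHom (c.w a) A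
  have hs : β.left ≫ pullback.snd A.hom (c.π.app i) = pullback.snd (Wm m).hom uj :=
    MorphismProperty.Over.w β
  have hf : β.left ≫ pullback.fst A.hom (c.π.app i) =
      pullback.fst (Wm m).hom uj ≫ v' m ≫ pullback.snd (D.map l.hom) A.hom := by
    refine (Category.assoc _ _ _).trans ((congrArg (((EtCoh.bc uj).map (ω m)).left ≫ ·)
      (bcHom_fst (c.w a) A)).trans ((Category.assoc _ _ _).symm.trans ?_))
    refine (congrArg (· ≫ pullback.fst A.hom (D.map a)) (EtCoh.isPullback_bc_map uj (ω m)).w).trans ?_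
    exact (Category.assoc _ _ _).trans (congrArg (pullback.fst (Wm m).hom uj ≫ ·)
      ((Category.assoc _ _ _).trans (congrArg (v' m ≫ ·) (pullbackSymmetry_hom_comp_fst _ _))))
  have hcond : pullback.fst (Wm m).hom uj ≫ v' m = β.left ≫
      pullback.lift (pullback.snd A.hom (c.π.app i) ≫ c.π.app l.left) (pullback.fst A.hom (c.π.app i))
        (by rw [Category.assoc, c.w]; exact hsq.w) := by
    refine pullback.hom_ext ?_ ?_
    · exact ((Category.assoc _ _ _).trans ((pullback.condition (f := (Wm m).hom) (g := uj)).trans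
        ((congrArg (· ≫ uj) hs.symm).trans (Category.assoc _ _ _)))).trans
        ((Category.assoc _ _ _).trans (congrArg (β.left ≫ ·) (pullback.lift_fst _ _ _))).symm
    · exact ((Category.assoc _ _ _).trans hf.symm).trans
        ((Category.assoc _ _ _).trans (congrArg (β.left ≫ ·) (pullback.lift_snd _ _ _))).symm
  let ψl : ((EtCoh.bc uj).obj (Wm m)).left ⟶ (W (idx m)).left :=
    (he m).lift (pullback.fst (Wm m).hom uj) β.left hcond
  have hψ : ψl ≫ (t (idx m)).left = β.left := (he m).lift_snd _ _ _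
  let ψ : (EtCoh.bc uj).obj (Wm m) ⟶ W (idx m) := MorphismProperty.Over.homMk ψl
    ((congrArg (ψl ≫ ·) (MorphismProperty.Over.w (t (idx m))).symm).trans
      ((Category.assoc _ _ _).symm.trans ((congrArg (· ≫ U.hom) hψ).trans (MorphismProperty.Over.w β))))
  have hψβ : ψ ≫ t (idx m) = β := MorphismProperty.Over.Hom.ext hψ
  have key : Q.obj.map ((EtCoh.bc uj).map (ω m)).op (Q.obj.map (bcHom (c.w a) A).op q) =
      g.hom.app (op _) (M.obj.map ψ.op (r (idx m))) := by
    refine Eq.trans (congrArg (fun k => k q) (Q.obj.map_comp (bcHom (c.w a) A).op ((EtCoh.bc uj).map (ω m)).op).symm) ?_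
    refine Eq.trans (congrArg (fun k => Q.obj.map k.op q) hψβ.symm) ?_
    refine (congrArg (fun k => k q) (Q.obj.map_comp (t (idx m)).op ψ.op)).trans ?_
    exact (congrArg (Q.obj.map ψ.op) (hr (idx m))).symm.trans
      (congrArg (fun k => k (r (idx m))) (g.hom.naturality ψ.op)).symm
  refine (congrArg (fun k => k (Q.obj.map (bcHom (c.w a) A).op q))
    ((cokernel.π (pushAt c g j)).hom.naturality (ω m).op)).symm.trans ?_
  refine (congrArg ((cokernel.π (pushAt c g j)).hom.app (op (Wm m))) key).trans ?_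
  exact congrArg (fun k : (EtCoh.push uj).obj M ⟶ Coker c g j => k.hom.app (op (Wm m)) (M.obj.map ψ.op (r (idx m))))
    (cokernel.condition (pushAt c g j))

end Groth.Agent.EtLimLib
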