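import Groth.Agent.EtLimLib.Kill
import Groth.Agent.EtLimLib.Cohom
import Groth.Agent.EtCechLib.CohColim
import Groth.Agent.EtSh.FLCSerre

/-!
# Cohomology of a limit of schemes with coefficients pushed to the stages
-/

noncomputable section

set_option autoImplicit false
set_option linter.style.haveILetI false
set_option backward.isDefEq.respectTransparency.types false

universe u

open CategoryTheory CategoryTheory.Limits AlgebraicGeometry Opposite CategoryTheory.Abelian

namespace Groth.Agent.EtLimLib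

variable {I : Type u} [SmallCategory I] {D : I ⥤ Scheme.{u}} (c : Cone D)

section Coker

variable {M Q : EtCoh.Ab c.pt} (g : M ⟶ Q)

theorem φ_comp {i j k : I} (a : j ⟶ i) (b : k ⟶ j) :
    φ c g (b ≫ a) ≫ (θIso (D.map_comp b a).symm).hom.app (Coker c g k) =
      φ c g a ≫ (EtCoh.push (D.map a)).map (φ c g b) := by
  refine (cancel_epi (cokernel.π (pushAt c g i))).1 ?_
  refine ((Category.assoc _ _ _).symm.trans ((congrArg (· ≫ _) (π_φ c g (b ≫ a))).trans
    ((Category.assoc _ _ _).trans (congrArg ((θIso (c.w (b ≫ a))).hom.app Q ≫ ·)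
      ((θIso (D.map_comp b a).symm).hom.naturality (cokernel.π (pushAt c g k))))))).trans ?_
  refine Eq.trans ?_ ((Category.assoc _ _ _).symm.trans ((congrArg (· ≫ _) (π_φ c g a)).trans
    ((Category.assoc _ _ _).trans (congrArg ((θIso (c.w a)).hom.app Q ≫ ·)
      (((EtCoh.push (D.map a)).map_comp _ _).symm.trans ((congrArg (EtCoh.push (D.map a)).map (π_φ c g b)).trans
        ((EtCoh.push (D.map a)).map_comp _ _))))))).symm
  refine ((Category.assoc _ _ _).symm.trans ((congrArg (· ≫ _)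
    (θIso_assoc (c.w a) (c.w b) (c.w (b ≫ a)) (D.map_comp b a).symm Q).symm).trans ?_))
  exact Category.assoc _ _ _

theorem ker_le {i j k : I} (a : j ⟶ i) (b : k ⟶ j) (a' : k ⟶ i) (h : b ≫ a = a') :
    kernel.ι (φ c g a) ≫ φ c g a' = 0 := by
  subst h
  refine (cancel_mono ((θIso (D.map_comp b a).symm).hom.app (Coker c g k))).1 ?_
  refine ((Category.assoc _ _ _).trans ((congrArg (kernel.ι (φ c g a) ≫ ·) (φ_comp c g a b)).trans
    ((Category.assoc _ _ _).symm.trans ((congrArg (· ≫ _) (kernel.condition (φ c g a))).trans zero_comp)))).trans ?_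
  exact zero_comp.symm

/-- the subsheaves of the cokernel killed at the later stages -/
abbrev kerDiag (i : I) : (Over i)ᵒᵖ ⥤ EtCoh.Ab (D.obj i) where
  obj j := kernel (φ c g j.unop.hom)
  map {j j'} t := kernel.lift _ (kernel.ι _) (ker_le c g j.unop.hom t.unop.left j'.unop.hom (Over.w t.unop))
  map_id j := (cancel_mono (kernel.ι _)).1 ((kernel.lift_ι _ _ _).trans (Category.id_comp _).symm)
  map_comp s t := (cancel_mono (kernel.ι _)).1 ((kernel.lift_ι _ _ _).trans
    ((Category.assoc _ _ _).trans ((congrArg (_ ≫ ·) (kernel.lift_ι _ _ _)).trans (kernel.lift_ι _ _ _))).symm)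

variable [IsCofiltered I] (hc : IsLimit c) [∀ (i j : I) (a : i ⟶ j), IsAffineHom (D.map a)]

include hc in
theorem exists_H_kill [Epi g] (i : I) [CompactSpace (D.obj i)] [QuasiSeparatedSpace (D.obj i)] (n : ℕ)
    (x : EtCoh.H (D.obj i) (Coker c g i) n) :
    ∃ (j : I) (a : j ⟶ i), Sheaf.H.map (φ c g a) n x = 0 := by
  haveI : IsFiltered (AsSmall.{u + 1} (Over i)ᵒᵖ) := IsFiltered.of_equivalence AsSmall.equiv
  let K : AsSmall.{u + 1} (Over i)ᵒᵖ ⥤ EtCoh.Ab (D.obj i) := AsSmall.down ⋙ kerDiag c g i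
  let κ : K ⟶ (Functor.const _).obj (Coker c g i) :=
    { app := fun j => kernel.ι _
      naturality := fun j j' t => (kernel.lift_ι _ _ _).trans (Category.comp_id _).symm }
  let e : colimit K ⟶ Coker c g i := colimit.desc K ⟨_, κ⟩
  haveI : IsConnected (AsSmall.{u + 1} (Over i)ᵒᵖ) := IsFiltered.isConnected _
  haveI : ∀ j, Mono (κ.app j) := fun j => inferInstanceAs (Mono (kernel.ι _))
  haveI : Mono κ := NatTrans.mono_of_mono_app _
  haveI hm : Mono e := colim.map_mono' κ (colimit.isColimit K) (isColimitConstCocone _ (Coker c g i)) e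
    (fun j => (colimit.ι_desc _ _).trans (Category.comp_id _).symm)
  haveI he : Epi e := by
    have : Sheaf.IsLocallySurjective e := ⟨fun {U} s => (EtSh.mem_topology_iff _).2 fun z => by
      obtain ⟨W, t, w, q, hw, hq⟩ := EtSh.exists_lift_of_epi (cokernel.π (pushAt c g i)) U s z
      obtain ⟨A, t', y, hA, hy⟩ := EtCechLib.exists_affine_over w
      obtain ⟨j, a, ha⟩ := exists_kill c g hc A hA (((EtCoh.push (c.π.app i)).obj Q).obj.map t'.op q)
      let S := ShortComplex.mk (kernel.ι (φ c g a)) (φ c g a) (kernel.condition _)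
      haveI : Mono S.f := inferInstanceAs (Mono (kernel.ι _))
      obtain ⟨r, hr⟩ := EtSh.app_exact (S := S) (S.exact_of_f_is_kernel (kernelIsKernel _)) A _ ha
      let jj : AsSmall.{u + 1} (Over i)ᵒᵖ := AsSmall.up.obj (op (Over.mk a))
      refine ⟨A, t' ≫ t, y, ⟨(colimit.ι K jj).hom.app (op A) r, ?_⟩, (congrArg t.left.base hy).trans hw⟩
      refine (congrArg (fun k : K.obj jj ⟶ Coker c g i => k.hom.app (op A) r) (colimit.ι_desc ⟨_, κ⟩ jj)).trans ?_
      refine hr.trans ?_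
      refine (congrArg (fun k => k q) ((cokernel.π (pushAt c g i)).hom.naturality t'.op)).trans ?_
      exact (congrArg ((Coker c g i).obj.map t'.op) hq).trans
        (congrArg (fun k => k s) ((Coker c g i).obj.map_comp t.op t'.op)).symm⟩
    exact Sheaf.epi_of_isLocallySurjective e
  haveI : IsIso e := isIso_of_mono_of_epi e
  obtain ⟨j, η, hη⟩ := (EtCechLib.exists_H_rep_and_zero n K).1 (Sheaf.H.map (inv e) n x)
  let a : (AsSmall.down.obj j).unop.left ⟶ i := (AsSmall.down.obj j).unop.hom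
  refine ⟨_, a, ?_⟩
  have hx : x = Sheaf.H.map (kernel.ι (φ c g a)) n η := by
    have h1 := congrArg (Sheaf.H.map e n) hη
    rw [← Sheaf.H.map_comp_apply, ← Sheaf.H.map_comp_apply, IsIso.inv_hom_id, Sheaf.H.map_id_apply] at h1
    exact h1.symm.trans (congrArg (fun k : K.obj j ⟶ Coker c g i => Sheaf.H.map k n η) (colimit.ι_desc ⟨_, κ⟩ j))
  rw [hx]
  refine (Sheaf.H.map_comp_apply (kernel.ι (φ c g a)) (φ c g a) η).symm.trans ?_
  rw [kernel.condition, Sheaf.H.map_apply]
  exact (congrArg (fun e => Ext.comp η e (add_zero n)) (Ext.mk₀_zero _ _)).trans (Ext.comp_zero _ _ _ _ _)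

end Coker

section Seq

variable (S : ShortComplex (EtCoh.Ab c.pt))

/-- `0 → K_i → u_{i*} Q → C_i → 0` -/
abbrev cokSeq (i : I) : ShortComplex (EtCoh.Ab (D.obj i)) :=
  ShortComplex.mk (pushSeqHom (c.π.app i) S).τ₃ (cokernel.π (pushAt c S.g i))
    ((cancel_epi (cokernel.π ((EtCoh.push (c.π.app i)).map S.f))).1
      (((Category.assoc _ _ _).symm.trans ((congrArg (· ≫ _) (cokernel.π_desc _ _ _)).trans
        (cokernel.condition (pushAt c S.g i)))).trans comp_zero.symm))

theorem cokSeq_shortExact {S : ShortComplex (EtCoh.Ab c.pt)} (hS : S.ShortExact) (i : I)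
    [PreservesFiniteLimits (EtCoh.pull (c.π.app i))] : (cokSeq c S i).ShortExact where
  exact := by
    let P := ShortComplex.mk (pushAt c S.g i) (cokernel.π (pushAt c S.g i)) (cokernel.condition _)
    let ψ : P ⟶ cokSeq c S i :=
      { τ₁ := cokernel.π ((EtCoh.push (c.π.app i)).map S.f)
        τ₂ := 𝟙 _
        τ₃ := 𝟙 _
        comm₁₂ := (cokernel.π_desc _ _ _).trans (Category.comp_id _).symm
        comm₂₃ := (Category.id_comp _).trans (Category.comp_id _).symm }
    haveI : Epi ψ.τ₁ := inferInstanceAs (Epi (cokernel.π _))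
    haveI : IsIso ψ.τ₂ := inferInstanceAs (IsIso (𝟙 _))
    haveI : Mono ψ.τ₃ := inferInstanceAs (Mono (𝟙 _))
    exact (ShortComplex.exact_iff_of_epi_of_isIso_of_mono ψ).1 (P.exact_of_g_is_cokernel (cokernelIsCokernel _))
  mono_f := by
    haveI := hS.mono_f
    have hex : (S.map (EtCoh.push (c.π.app i))).Exact :=
      hS.exact.map_of_mono_of_preservesKernel _ inferInstance inferInstance
    exact hex.mono_cokernelDesc
  epi_g := inferInstanceAs (Epi (cokernel.π _))

/-- transition map between the sequences of cokernels -/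
abbrev cokHom {i j : I} (a : j ⟶ i) : cokSeq c S i ⟶ (cokSeq c S j).map (EtCoh.push (D.map a)) where
  τ₁ := (transHom (c.w a) S).τ₃
  τ₂ := (θIso (c.w a)).hom.app S.X₃
  τ₃ := φ c S.g a
  comm₁₂ := transHom_τ₃_desc (c.w a) S
  comm₂₃ := (π_φ c S.g a).symm

end Seq

set_option linter.unusedSectionVars false

variable [∀ i, PreservesFiniteLimits (EtCoh.pull (c.π.app i))]
  [∀ {i j : I} (a : i ⟶ j), PreservesFiniteLimits (EtCoh.pull (D.map a))]

/-- the transition map on cohomology -/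
abbrev Tr {i j : I} (a : j ⟶ i) (F : EtCoh.Ab c.pt) (n : ℕ) :
    EtCoh.H (D.obj i) ((EtCoh.push (c.π.app i)).obj F) n →+ EtCoh.H (D.obj j) ((EtCoh.push (c.π.app j)).obj F) n :=
  EtLim.HpushTrans (D.map a) (c.π.app j) (c.π.app i) (c.w a) F n

theorem Tr_comp {i j k : I} (a : j ⟶ i) (b : k ⟶ j) (F : EtCoh.Ab c.pt) (n : ℕ)
    (x : EtCoh.H (D.obj i) ((EtCoh.push (c.π.app i)).obj F) n) :
    Tr c b F n (Tr c a F n x) = Tr c (b ≫ a) F n x :=
  hpushTrans_comp (c.w a) (c.w b) (c.w (b ≫ a)) (D.map_comp b a).symm F n x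

theorem hofPush_Tr {i j : I} (a : j ⟶ i) (F : EtCoh.Ab c.pt) (n : ℕ)
    (x : EtCoh.H (D.obj i) ((EtCoh.push (c.π.app i)).obj F) n) :
    EtLim.HofPush (c.π.app j) F n (Tr c a F n x) = EtLim.HofPush (c.π.app i) F n x :=
  hofPush_comp (c.w a) n F x

theorem Tr_natural {i j : I} (a : j ⟶ i) {F G : EtCoh.Ab c.pt} (α : F ⟶ G) (n : ℕ)
    (x : EtCoh.H (D.obj i) ((EtCoh.push (c.π.app i)).obj F) n) :
    Tr c a G n (Sheaf.H.map ((EtCoh.push (c.π.app i)).map α) n x) =
      Sheaf.H.map ((EtCoh.push (c.π.app j)).map α) n (Tr c a F n x) := by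
  refine Eq.trans ?_ (hofPush_natural (D.map a) ((EtCoh.push (c.π.app j)).map α) n _)
  refine congrArg (EtLim.HofPush (D.map a) ((EtCoh.push (c.π.app j)).obj G) n) ?_
  refine (Sheaf.H.map_comp_apply _ _ x).symm.trans ?_
  exact (congrArg (fun m => Sheaf.H.map m n x) ((θIso (c.w a)).hom.naturality α)).trans
    (Sheaf.H.map_comp_apply _ _ x)

theorem natP (S : ShortComplex (EtCoh.Ab c.pt)) (n : ℕ) {i j : I} (a : j ⟶ i)
    (κ : EtCoh.H (D.obj i) (pushSeq (c.π.app i) S).X₃ n) :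
    Tr c a S.X₃ n (Sheaf.H.map (pushSeqHom (c.π.app i) S).τ₃ n κ) = Sheaf.H.map (pushSeqHom (c.π.app j) S).τ₃ n
      (EtLim.HofPush (D.map a) (pushSeq (c.π.app j) S).X₃ n (Sheaf.H.map (transHom (c.w a) S).τ₃ n κ)) := by
  refine Eq.trans ?_ (hofPush_natural (D.map a) (pushSeqHom (c.π.app j) S).τ₃ n _)
  refine congrArg (EtLim.HofPush (D.map a) ((EtCoh.push (c.π.app j)).obj S.X₃) n) ?_
  refine (Sheaf.H.map_comp_apply _ _ κ).symm.trans ?_
  exact (congrArg (fun m => Sheaf.H.map m n κ) (transHom_τ₃_desc (c.w a) S)).symm.trans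
    (Sheaf.H.map_comp_apply _ _ κ)

theorem π_Tr {S : ShortComplex (EtCoh.Ab c.pt)} (n : ℕ) {i j : I} (a : j ⟶ i)
    (η : EtCoh.H (D.obj i) ((EtCoh.push (c.π.app i)).obj S.X₃) n)
    (h : Sheaf.H.map (φ c S.g a) n (Sheaf.H.map (cokernel.π (pushAt c S.g i)) n η) = 0) :
    Sheaf.H.map (cokernel.π (pushAt c S.g j)) n (Tr c a S.X₃ n η) = 0 := by
  refine (hofPush_natural (D.map a) (cokernel.π (pushAt c S.g j)) n _).symm.trans ?_
  refine (congrArg (EtLim.HofPush (D.map a) (Coker c S.g j) n) ?_).trans (map_zero _)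
  refine ((Sheaf.H.map_comp_apply _ _ η).symm.trans ?_).trans h
  exact (congrArg (fun m => Sheaf.H.map m n η) (π_φ c S.g a)).symm.trans (Sheaf.H.map_comp_apply _ _ η)

theorem delta_kill {S : ShortComplex (EtCoh.Ab c.pt)} (hS : S.ShortExact) (q : ℕ) {l e : I} (s : e ⟶ l)
    (y : EtCoh.H (D.obj l) (Coker c S.g l) q) (hs : Sheaf.H.map (φ c S.g s) q y = 0)
    (hA : (pushSeq (c.π.app l) S).ShortExact) :
    Tr c s S.X₁ (q + 1 + 1) (Ext.comp (y.comp (cokSeq_shortExact c hS l).extClass rfl) hA.extClass rfl) = 0 := by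
  refine (hpushTrans_delta (c.w s) hS (q + 1) _ hA).trans ?_
  refine (congrArg (fun z => Ext.comp z (pushSeq_shortExact (c.π.app e) hS).extClass rfl) ?_).trans
    (Ext.zero_comp _ _ _ _ _)
  refine (hofPush_extClass (D.map s) (cokSeq_shortExact c hS e) (cokSeq_shortExact c hS l) (cokHom c S s) q y).trans ?_
  refine (congrArg (fun z => Ext.comp z (cokSeq_shortExact c hS e).extClass rfl) ?_).trans (Ext.zero_comp _ _ _ _ _)
  exact (congrArg (EtLim.HofPush (D.map s) (Coker c S.g e) q) hs).trans (map_zero _)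

theorem zero_mono {S : ShortComplex (EtCoh.Ab c.pt)} (hS : S.ShortExact) (l : I)
    (d : EtCoh.H (D.obj l) (pushSeq (c.π.app l) S).X₃ 0)
    (hd : Sheaf.H.map (pushSeqHom (c.π.app l) S).τ₃ 0 d = 0) : d = 0 := by
  haveI : Mono (pushSeqHom (c.π.app l) S).τ₃ := (cokSeq_shortExact c hS l).mono_f
  obtain ⟨v, rfl⟩ := (Ext.mk₀_bijective _ _).2 d
  have hv0 : v = 0 := by
    refine (cancel_mono (pushSeqHom (c.π.app l) S).τ₃).1 (((Ext.mk₀_bijective _ _).1 ?_).trans zero_comp.symm)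
    exact ((Ext.mk₀_comp_mk₀ v _).symm.trans hd).trans (Ext.mk₀_zero _ _).symm
  rw [hv0]
  exact Ext.mk₀_zero _ _

theorem map_πA_delta {S : ShortComplex (EtCoh.Ab c.pt)} (l : I) (hA : (pushSeq (c.π.app l) S).ShortExact) (n : ℕ)
    (d : EtCoh.H (D.obj l) (pushSeq (c.π.app l) S).X₃ n) (θ : EtCoh.H (D.obj l) (pushSeq (c.π.app l) S).X₂ n) :
    (d + Sheaf.H.map (pushSeq (c.π.app l) S).g n θ).comp hA.extClass rfl = d.comp hA.extClass rfl := by
  have h0 : (Sheaf.H.map (pushSeq (c.π.app l) S).g n θ).comp hA.extClass rfl = 0 :=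
    (Ext.comp_assoc_of_second_deg_zero θ (Ext.mk₀ (pushSeq (c.π.app l) S).g) hA.extClass rfl).trans
      ((congrArg (fun e => θ.comp e rfl) hA.comp_extClass).trans (Ext.comp_zero _ _ _ _ _))
  exact (Ext.add_comp _ _ _ _).trans ((congrArg (d.comp hA.extClass rfl + ·) h0).trans (add_zero _))

end Groth.Agent.EtLimLib
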