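import Groth.Agent.EtLimLib.System
import Groth.Agent.LimSch.Pullback

/-!
# Systems injective near points are injective on quasi-compact étale schemes
-/

noncomputable section

set_option autoImplicit false
set_option linter.style.haveILetI false
set_option linter.unusedSectionVars false
set_option backward.isDefEq.respectTransparency.types false

universe u

open CategoryTheory CategoryTheory.Limits AlgebraicGeometry Opposite

namespace Groth.Agent.EtLimLib

instance isIso_bcHom {X Y Z : Scheme.{u}} {g : Y ⟶ Z} {h : X ⟶ Y} {f : X ⟶ Z} (w : h ≫ g = f) (V : Z.Etale) :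
    IsIso (bcHom w V) :=
  inferInstanceAs (IsIso
    ((MorphismProperty.Over.pullbackComp (P := EtCoh.etaleMP) (Q := ⊤) h g).inv.app V ≫
      (MorphismProperty.Over.pullbackCongr (P := EtCoh.etaleMP) (Q := ⊤) w.symm).inv.app V))

/-- change of the second factor of a base change -/
def bcStep {X Y Z : Scheme.{u}} {g : Y ⟶ Z} {h : X ⟶ Y} {f : X ⟶ Z} (w : h ≫ g = f) (V : Z.Etale) :
    ((EtCoh.bc f).obj V).left ⟶ ((EtCoh.bc g).obj V).left :=
  pullback.lift (pullback.fst V.hom f) (pullback.snd V.hom f ≫ h)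
    (by rw [Category.assoc, w]; exact pullback.condition)

theorem bcStep_fst {X Y Z : Scheme.{u}} {g : Y ⟶ Z} {h : X ⟶ Y} {f : X ⟶ Z} (w : h ≫ g = f) (V : Z.Etale) :
    bcStep w V ≫ pullback.fst V.hom g = pullback.fst V.hom f :=
  pullback.lift_fst _ _ _

theorem bcStep_snd {X Y Z : Scheme.{u}} {g : Y ⟶ Z} {h : X ⟶ Y} {f : X ⟶ Z} (w : h ≫ g = f) (V : Z.Etale) :
    bcStep w V ≫ pullback.snd V.hom g = pullback.snd V.hom f ≫ h :=
  pullback.lift_snd _ _ _

theorem bcHom_bcStep {X Y Z : Scheme.{u}} {g : Y ⟶ Z} {h : X ⟶ Y} {f : X ⟶ Z} (w : h ≫ g = f) (V : Z.Etale) :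
    (bcHom w V).left ≫ bcStep w V =
      (pullback.fst ((EtCoh.bc g).obj V).hom h : _ ⟶ ((EtCoh.bc g).obj V).left) := by
  refine pullback.hom_ext ?_ ?_
  · exact (Category.assoc _ _ _).trans ((congrArg ((bcHom w V).left ≫ ·) (bcStep_fst w V)).trans (bcHom_fst w V))
  · exact (Category.assoc _ _ _).trans ((congrArg ((bcHom w V).left ≫ ·) (bcStep_snd w V)).trans
      ((Category.assoc _ _ _).symm.trans ((congrArg (· ≫ h) (MorphismProperty.Over.w (bcHom w V))).trans
        (pullback.condition (f := ((EtCoh.bc g).obj V).hom) (g := h)).symm)))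

theorem bcStep_bcStep {W X Y Z : Scheme.{u}} {g : Y ⟶ Z} {h : X ⟶ Y} {k : W ⟶ X} {t : W ⟶ Z} {hg : X ⟶ Z}
    {kh : W ⟶ Y} (w₁ : kh ≫ g = t) (w₂ : k ≫ h = kh) (w₃ : k ≫ hg = t) (w₄ : h ≫ g = hg) (V : Z.Etale) :
    bcStep w₃ V ≫ bcStep w₄ V = bcStep w₁ V := by
  refine pullback.hom_ext ?_ ?_
  · exact (Category.assoc _ _ _).trans ((congrArg (_ ≫ ·) (bcStep_fst w₄ V)).trans
      ((bcStep_fst w₃ V).trans (bcStep_fst w₁ V).symm))
  · refine (Category.assoc _ _ _).trans ((congrArg (_ ≫ ·) (bcStep_snd w₄ V)).trans ?_)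
    refine (Category.assoc _ _ _).symm.trans ((congrArg (· ≫ h) (bcStep_snd w₃ V)).trans ?_)
    exact (Category.assoc _ _ _).trans ((congrArg (_ ≫ ·) w₂).trans (bcStep_snd w₁ V).symm)

variable {I : Type u} [SmallCategory I] {D : I ⥤ Scheme.{u}} {c : Cone D} {G : EtCoh.Ab c.pt} (S : SheafSystem c G)

namespace SheafSystem

/-- the points near which a section dies at a stage -/
def killSet {i : I} (A : (D.obj i).Etale) (r : EtCoh.sect (S.obj i) A) {j : I} (a : j ⟶ i) :
    Set ↥((EtCoh.bc (D.map a)).obj A).left :=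
  {y | ∃ (W : (D.obj j).Etale) (g : W ⟶ (EtCoh.bc (D.map a)).obj A) (w : W.left),
    g.left.base w = y ∧ (S.obj j).obj.map g.op ((S.α a).hom.app (op A) r) = 0}

/-- sections dying near a point of the limit die near its image at a stage -/
def PtInj : Prop :=
  ∀ (i : I) (A : (D.obj i).Etale) (r : EtCoh.sect (S.obj i) A) (x : ((EtCoh.bc (c.π.app i)).obj A).left),
    (S.β i).hom.app (op A) r = 0 → ∃ (j : I) (a : j ⟶ i), (bcStep (c.w a) A).base x ∈ S.killSet A r a

theorem isOpen_killSet {i : I} (A : (D.obj i).Etale) (r : EtCoh.sect (S.obj i) A) {j : I} (a : j ⟶ i) :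
    IsOpen (S.killSet A r a) := by
  refine isOpen_iff_forall_mem_open.2 fun y hy => ?_
  obtain ⟨W, g, w, hw, hg⟩ := hy
  haveI : Etale g.left := MorphismProperty.of_postcomp (W := EtCoh.etaleMP) (W' := EtCoh.etaleMP)
    g.left ((EtCoh.bc (D.map a)).obj A).hom ((EtCoh.bc (D.map a)).obj A).prop
    ((MorphismProperty.Over.w g).symm ▸ W.prop)
  exact ⟨Set.range g.left.base, fun z ⟨v, hv⟩ => ⟨W, g, v, hv, hg⟩, g.left.isOpenMap.isOpen_range, ⟨w, hw⟩⟩

theorem killSet_step {i : I} (A : (D.obj i).Etale) (r : EtCoh.sect (S.obj i) A) {j k : I} (a : j ⟶ i) (b : k ⟶ j)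
    (y : ((EtCoh.bc (D.map (b ≫ a))).obj A).left)
    (hy : (bcStep (D.map_comp b a).symm A).base y ∈ S.killSet A r a) : y ∈ S.killSet A r (b ≫ a) := by
  obtain ⟨W, g, w, hw, hg⟩ := hy
  let m := bcHom (D.map_comp b a).symm A
  have hy' : (pullback.fst ((EtCoh.bc (D.map a)).obj A).hom (D.map b) : _ ⟶ ((EtCoh.bc (D.map a)).obj A).left).base
      ((inv m).left.base y) = g.left.base w := by
    refine Eq.trans ?_ hw.symm
    refine (congrArg (fun k => k.base ((inv m).left.base y)) (bcHom_bcStep (D.map_comp b a).symm A)).symm.trans ?_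
    exact congrArg (bcStep (D.map_comp b a).symm A).base
      (congrArg (fun k : (EtCoh.bc (D.map (b ≫ a))).obj A ⟶ (EtCoh.bc (D.map (b ≫ a))).obj A => k.left.base y)
        (IsIso.inv_hom_id m))
  obtain ⟨z, hz, -⟩ := Scheme.exists_preimage_of_isPullback (EtCoh.isPullback_bc_map (D.map b) g)
    ((inv m).left.base y) w hy'
  refine ⟨(EtCoh.bc (D.map b)).obj W, (EtCoh.bc (D.map b)).map g ≫ m, z, ?_, ?_⟩
  · refine (congrArg m.left.base hz).trans ?_
    exact congrArg (fun k : (EtCoh.bc (D.map (b ≫ a))).obj A ⟶ (EtCoh.bc (D.map (b ≫ a))).obj A => k.left.base y)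
      (IsIso.inv_hom_id m)
  · refine (congrArg (fun k => k ((S.α (b ≫ a)).hom.app (op A) r))
      ((S.obj k).obj.map_comp m.op ((EtCoh.bc (D.map b)).map g).op)).trans ?_
    have h1 : (S.obj k).obj.map m.op ((S.α (b ≫ a)).hom.app (op A) r) =
        (S.α b).hom.app (op ((EtCoh.bc (D.map a)).obj A)) ((S.α a).hom.app (op A) r) :=
      (θIso_app (D.map_comp b a).symm (S.obj k) A _).symm.trans
        (congrArg (fun k => k.hom.app (op A) r) (S.α_comp a b))
    refine (congrArg ((S.obj k).obj.map ((EtCoh.bc (D.map b)).map g).op) h1).trans ?_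
    refine (congrArg (fun k => k ((S.α a).hom.app (op A) r)) ((S.α b).hom.naturality g.op)).symm.trans ?_
    exact (congrArg ((S.α b).hom.app (op W)) hg).trans (map_zero _)

variable [IsCofiltered I] (hc : IsLimit c) [∀ (i j : I) (a : i ⟶ j), IsAffineHom (D.map a)]

include hc in
theorem exists_kill_of_compact (hp : S.PtInj) (i : I) (A : (D.obj i).Etale) [CompactSpace A.left]
    (r : EtCoh.sect (S.obj i) A) (hr : (S.β i).hom.app (op A) r = 0) :
    ∃ (j : I) (a : j ⟶ i), (S.α a).hom.app (op A) r = 0 := by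
  classical
  haveI := isAffineHom_π_app D c hc i
  haveI : CompactSpace ((𝟭 Scheme.{u}).obj A.left) := ‹CompactSpace A.left›
  haveI : IsAffineHom (pullback.fst A.hom (c.π.app i)) :=
    MorphismProperty.pullback_fst (P := @IsAffineHom) _ _ ‹IsAffineHom (c.π.app i)›
  haveI : CompactSpace ↥((EtCoh.bc (c.π.app i)).obj A).left :=
    (QuasiCompact.compactSpace_of_compactSpace (pullback.fst A.hom (c.π.app i)) :
      CompactSpace ↥(pullback A.hom (c.π.app i) : Scheme.{u}))
  choose k a hka using fun x => hp i A r x hr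
  obtain ⟨T, hT⟩ := isCompact_univ.elim_finite_subcover
    (fun x => (bcStep (c.w (a x)) A).base ⁻¹' S.killSet A r (a x))
    (fun x => (S.isOpen_killSet A r (a x)).preimage (bcStep (c.w (a x)) A).continuous)
    (fun x _ => Set.mem_iUnion.2 ⟨x, hka x⟩)
  obtain ⟨m, hm⟩ := IsCofiltered.inf_objs_exists (T.image fun x => Over.mk (a x))
  have hall : ∀ x, (bcStep (c.w m.hom) A).base x ∈ S.killSet A r m.hom := by
    intro x
    obtain ⟨z, hz, hxz⟩ := Set.mem_iUnion₂.1 (hT (Set.mem_univ x))
    obtain ⟨f⟩ := hm (Finset.mem_image_of_mem _ hz)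
    have key : ∀ (a' : m.left ⟶ i) (_ : f.left ≫ a z = a'),
        (bcStep (c.w a') A).base x ∈ S.killSet A r a' := by
      intro a' h
      subst h
      refine S.killSet_step A r (a z) f.left _ ?_
      exact (congrArg (fun k => k.base x) (bcStep_bcStep (c.w (a z)) (c.w f.left) (c.w (f.left ≫ a z))
        (D.map_comp f.left (a z)).symm A)).symm ▸ hxz
    exact key m.hom (Over.w f)
  have hsq : IsPullback (pullback.snd A.hom (c.π.app i)) (pullback.fst A.hom (c.π.app i)) (c.π.app i) A.hom :=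
    (IsPullback.of_hasPullback A.hom (c.π.app i)).flip
  let O : ((LimSch.bcDiag D i A.hom).obj m).Opens :=
    (pullbackSymmetry (D.map m.hom) A.hom).hom ⁻¹ᵁ ⟨S.killSet A r m.hom, S.isOpen_killSet A r m.hom⟩
  have hπ : (LimSch.bcCone D c i A.hom _ _ hsq).π.app m ≫ (pullbackSymmetry (D.map m.hom) A.hom).hom =
      bcStep (c.w m.hom) A := by
    refine pullback.hom_ext ?_ ?_
    · exact (Category.assoc _ _ _).trans ((congrArg (_ ≫ ·) (pullbackSymmetry_hom_comp_fst _ _)).trans
        ((pullback.lift_snd _ _ _).trans (bcStep_fst (c.w m.hom) A).symm))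
    · exact (Category.assoc _ _ _).trans ((congrArg (_ ≫ ·) (pullbackSymmetry_hom_comp_snd _ _)).trans
        ((pullback.lift_fst _ _ _).trans (bcStep_snd (c.w m.hom) A).symm))
  obtain ⟨l, e, he⟩ := exists_map_eq_top (LimSch.bcDiag D i A.hom) _
    (LimSch.isLimitBcCone D c i A.hom hc _ _ hsq) (i := m) O (by
      refine eq_top_iff.2 fun x _ => ?_
      show ((LimSch.bcCone D c i A.hom _ _ hsq).π.app m ≫ (pullbackSymmetry (D.map m.hom) A.hom).hom).base x ∈
        S.killSet A r m.hom
      rw [hπ]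
      exact hall x)
  refine ⟨l.left, l.hom, ?_⟩
  have key : ∀ (a' : l.left ⟶ i) (h : e.left ≫ m.hom = a') (y : ((EtCoh.bc (D.map a')).obj A).left),
      (bcStep (show D.map e.left ≫ D.map m.hom = D.map a' by rw [← D.map_comp, h]) A).base y ∈ S.killSet A r m.hom →
        y ∈ S.killSet A r a' := by
    intro a' h y hy
    subst h
    exact S.killSet_step A r m.hom e.left y hy
  refine EtSh.sect_ext (S.obj l.left) fun y => ?_
  have hy : y ∈ S.killSet A r l.hom := by
    refine key l.hom (Over.w e) y ?_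
    have hx : (pullbackSymmetry A.hom (D.map l.hom)).hom.base y ∈ (LimSch.bcDiag D i A.hom).map e ⁻¹ᵁ O := by
      rw [he]; trivial
    have hmor : (pullbackSymmetry A.hom (D.map l.hom)).hom ≫ (LimSch.bcDiag D i A.hom).map e ≫
        (pullbackSymmetry (D.map m.hom) A.hom).hom =
          bcStep (show D.map e.left ≫ D.map m.hom = D.map l.hom by rw [← D.map_comp, Over.w e]) A := by
      have h1 : (LimSch.bcDiag D i A.hom).map e ≫ pullback.snd (D.map m.hom) A.hom = pullback.snd (D.map l.hom) A.hom :=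
        pullback.lift_snd _ _ _
      have h2 : (LimSch.bcDiag D i A.hom).map e ≫ pullback.fst (D.map m.hom) A.hom =
          pullback.fst (D.map l.hom) A.hom ≫ D.map e.left := pullback.lift_fst _ _ _
      refine pullback.hom_ext ?_ ?_
      · exact ((Category.assoc _ _ _).trans (congrArg ((pullbackSymmetry A.hom (D.map l.hom)).hom ≫ ·)
          ((Category.assoc _ _ _).trans ((congrArg ((LimSch.bcDiag D i A.hom).map e ≫ ·)
            (pullbackSymmetry_hom_comp_fst (D.map m.hom) A.hom)).trans h1)))).trans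
          ((pullbackSymmetry_hom_comp_snd A.hom (D.map l.hom)).trans (bcStep_fst _ A).symm)
      · exact ((Category.assoc _ _ _).trans (congrArg ((pullbackSymmetry A.hom (D.map l.hom)).hom ≫ ·)
          ((Category.assoc _ _ _).trans ((congrArg ((LimSch.bcDiag D i A.hom).map e ≫ ·)
            (pullbackSymmetry_hom_comp_snd (D.map m.hom) A.hom)).trans h2)))).trans
          ((Category.assoc _ _ _).symm.trans ((congrArg (· ≫ D.map e.left)
            (pullbackSymmetry_hom_comp_fst A.hom (D.map l.hom))).trans (bcStep_snd _ A).symm))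
    exact (congrArg (fun k => k.base y) hmor) ▸ hx
  obtain ⟨W, g, w, hw, hg⟩ := hy
  exact ⟨W, g, w, hw, hg.trans (map_zero _).symm⟩

include hc in
theorem locInj_of_ptInj (hp : S.PtInj) : S.LocInj := fun i A hA r hr =>
  haveI := hA
  S.exists_kill_of_compact hc hp i A r hr

end SheafSystem

end Groth.Agent.EtLimLib
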