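import Groth.Agent.EtLimLib.Pointwise
import Groth.Agent.LimSch.DescendsHom
import Groth.Agent.LimSch.DescendCover
import Groth.Agent.LimSch.DescendsSmooth
import Groth.Agent.EtSh.Gluing
import Groth.Agent.EtSh.FLCSerre

/-!
# Systems surjective near points are surjective on affine étale schemes
-/

noncomputable section

set_option autoImplicit false
set_option linter.style.haveILetI false
set_option linter.unusedSectionVars false
set_option backward.isDefEq.respectTransparency.types false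

universe u

open CategoryTheory CategoryTheory.Limits AlgebraicGeometry Opposite

namespace Groth.Agent.EtLimLib

section Hom

variable {X Y Z : Scheme.{u}}

/-- morphisms into a base change are determined by the first component -/
theorem bc_hom_ext {f : X ⟶ Z} {V : Z.Etale} {W : X.Etale} {a b : W ⟶ (EtCoh.bc f).obj V}
    (h : a.left ≫ pullback.fst V.hom f = b.left ≫ pullback.fst V.hom f) : a = b :=
  MorphismProperty.Over.Hom.ext (pullback.hom_ext h ((MorphismProperty.Over.w a).trans (MorphismProperty.Over.w b).symm))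

theorem bc_map_fst (f : X ⟶ Z) {V V' : Z.Etale} (m : V ⟶ V') :
    ((EtCoh.bc f).map m).left ≫ pullback.fst V'.hom f = pullback.fst V.hom f ≫ m.left :=
  (EtCoh.isPullback_bc_map f m).w

theorem bc_map_fst_assoc (f : X ⟶ Z) {V V' : Z.Etale} (m : V ⟶ V') {T : Scheme.{u}} (q : V'.left ⟶ T) :
    ((EtCoh.bc f).map m).left ≫ pullback.fst V'.hom f ≫ q = pullback.fst V.hom f ≫ m.left ≫ q :=
  (Category.assoc _ _ _).symm.trans ((congrArg (· ≫ q) (bc_map_fst f m)).trans (Category.assoc _ _ _))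

theorem bcHom_naturality {g : Y ⟶ Z} {h : X ⟶ Y} {f : X ⟶ Z} (w : h ≫ g = f) {V V' : Z.Etale} (m : V ⟶ V') :
    (EtCoh.bc h).map ((EtCoh.bc g).map m) ≫ bcHom w V' = bcHom w V ≫ (EtCoh.bc f).map m := by
  refine bc_hom_ext ?_
  refine (Category.assoc _ _ _).trans ((congrArg (_ ≫ ·) (bcHom_fst w V')).trans ?_)
  refine (bc_map_fst_assoc h ((EtCoh.bc g).map m) (pullback.fst V'.hom g)).trans ?_
  refine (congrArg (_ ≫ ·) (bc_map_fst g m)).trans ?_
  refine Eq.trans ?_ ((Category.assoc _ _ _).trans (congrArg (_ ≫ ·) (bc_map_fst f m))).symm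
  exact (Category.assoc _ _ _).symm.trans ((congrArg (· ≫ m.left) (bcHom_fst w V)).symm.trans (Category.assoc _ _ _))

theorem map_map {F : EtCoh.Ab X} {U V W : X.Etale} (a : W ⟶ V) (b : V ⟶ U) (x : EtCoh.sect F U) :
    F.obj.map a.op (F.obj.map b.op x) = F.obj.map (a ≫ b).op x :=
  (congrArg (fun z => z x) (F.obj.map_comp b.op a.op)).symm

end Hom

variable {I : Type u} [SmallCategory I] {D : I ⥤ Scheme.{u}} {c : Cone D} {G : EtCoh.Ab c.pt} (S : SheafSystem c G)

/-- morphisms between base changes of étale schemes come from a stage -/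
theorem exists_hom_descend [IsCofiltered I] (hc : IsLimit c) [∀ (i j : I) (a : i ⟶ j), IsAffineHom (D.map a)]
    {j k : I} (W : (D.obj j).Etale) [CompactSpace W.left] [QuasiSeparatedSpace W.left] (U : (D.obj k).Etale)
    (h : (EtCoh.bc (c.π.app j)).obj W ⟶ (EtCoh.bc (c.π.app k)).obj U) :
    ∃ (q : I) (c₁ : q ⟶ j) (c₂ : q ⟶ k) (η : (EtCoh.bc (D.map c₁)).obj W ⟶ (EtCoh.bc (D.map c₂)).obj U),
      (EtCoh.bc (c.π.app q)).map η ≫ bcHom (c.w c₂) U = bcHom (c.w c₁) W ≫ h := by
  let p := IsCofiltered.min j k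
  let b : p ⟶ j := IsCofiltered.minToLeft j k
  let b' : p ⟶ k := IsCofiltered.minToRight j k
  haveI : CompactSpace ((𝟭 Scheme.{u}).obj W.left) := ‹CompactSpace W.left›
  haveI : QuasiSeparatedSpace ((𝟭 Scheme.{u}).obj W.left) := ‹QuasiSeparatedSpace W.left›
  haveI : IsAffineHom (pullback.fst W.hom (D.map b)) :=
    MorphismProperty.pullback_fst (P := @IsAffineHom) _ _ inferInstance
  let W' := (EtCoh.bc (D.map b)).obj W
  let U' := (EtCoh.bc (D.map b')).obj U
  haveI : CompactSpace ↥((𝟭 Scheme.{u}).obj W'.left) :=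
    (QuasiCompact.compactSpace_of_compactSpace (pullback.fst W.hom (D.map b)) :
      CompactSpace ↥(pullback W.hom (D.map b) : Scheme.{u}))
  haveI : QuasiSeparatedSpace ↥((𝟭 Scheme.{u}).obj W'.left) :=
    (quasiSeparatedSpace_of_quasiSeparated (pullback.fst W.hom (D.map b)) :
      QuasiSeparatedSpace ↥(pullback W.hom (D.map b) : Scheme.{u}))
  haveI : Etale U'.hom := U'.prop
  let h' : (EtCoh.bc (c.π.app p)).obj W' ⟶ (EtCoh.bc (c.π.app p)).obj U' :=
    bcHom (c.w b) W ≫ h ≫ inv (bcHom (c.w b') U)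
  obtain ⟨q, φ, gm, hg1, hg2⟩ := LimSch.exists_hom_stage D c hc (xi := W'.hom) (yi := U'.hom)
    (IsPullback.of_hasPullback W'.hom (c.π.app p)) (h'.left ≫ pullback.fst U'.hom (c.π.app p))
    ((Category.assoc _ _ _).trans ((congrArg (h'.left ≫ ·) (pullback.condition (f := U'.hom) (g := c.π.app p))).trans
      ((Category.assoc _ _ _).symm.trans (congrArg (· ≫ c.π.app p) (MorphismProperty.Over.w h')))))
  let m₁ := bcHom (D.map_comp φ b).symm W
  haveI : IsIso m₁ := isIso_bcHom _ _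
  let mi := inv m₁
  let M : ((EtCoh.bc (D.map (φ ≫ b))).obj W).left ⟶ U.left := mi.left ≫ gm ≫ pullback.fst U.hom (D.map b')
  have hM : M ≫ U.hom = pullback.snd W.hom (D.map (φ ≫ b)) ≫ D.map (φ ≫ b') := by
    refine (Category.assoc _ _ _).trans ((congrArg (mi.left ≫ ·) ((Category.assoc _ _ _).trans
      ((congrArg (gm ≫ ·) (pullback.condition (f := U.hom) (g := D.map b'))).trans ((Category.assoc _ _ _).symm.trans
        ((congrArg (· ≫ D.map b') hg1).trans (Category.assoc _ _ _)))))).trans ?_)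
    refine (Category.assoc _ _ _).symm.trans ?_
    refine (congrArg (· ≫ (D.map φ ≫ D.map b')) (MorphismProperty.Over.w mi)).trans ?_
    exact congrArg (pullback.snd W.hom (D.map (φ ≫ b)) ≫ ·) (D.map_comp φ b').symm
  let η : (EtCoh.bc (D.map (φ ≫ b))).obj W ⟶ (EtCoh.bc (D.map (φ ≫ b'))).obj U :=
    MorphismProperty.Over.homMk (pullback.lift M (pullback.snd W.hom (D.map (φ ≫ b))) hM) (pullback.lift_snd _ _ _)
  refine ⟨q, φ ≫ b, φ ≫ b', η, bc_hom_ext ?_⟩
  let κ : (EtCoh.bc (c.π.app q)).obj ((EtCoh.bc (D.map (φ ≫ b))).obj W) ⟶ (EtCoh.bc (c.π.app p)).obj W' :=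
    (EtCoh.bc (c.π.app q)).map mi ≫ bcHom (c.w φ) W'
  have hκ : κ.left ≫ bcStep (c.w φ) W' =
      pullback.fst ((EtCoh.bc (D.map (φ ≫ b))).obj W).hom (c.π.app q) ≫ mi.left :=
    (Category.assoc _ _ _).trans ((congrArg (((EtCoh.bc (c.π.app q)).map mi).left ≫ ·)
      (bcHom_bcStep (c.w φ) W')).trans (bc_map_fst (c.π.app q) mi))
  have hκb : κ ≫ bcHom (c.w b) W = bcHom (c.w (φ ≫ b)) W := by
    refine (Category.assoc _ _ _).trans ?_
    refine (congrArg (_ ≫ ·) (bcHom_assoc (c.w b) (c.w φ) (c.w (φ ≫ b)) (D.map_comp φ b).symm W)).trans ?_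
    refine (Category.assoc _ _ _).symm.trans ?_
    refine (congrArg (· ≫ bcHom (c.w (φ ≫ b)) W) (((EtCoh.bc (c.π.app q)).map_comp mi m₁).symm.trans
      ((congrArg (EtCoh.bc (c.π.app q)).map (IsIso.inv_hom_id m₁)).trans ((EtCoh.bc (c.π.app q)).map_id _)))).trans ?_
    exact Category.id_comp _
  have hinv : (inv (bcHom (c.w b') U)).left ≫ pullback.fst U'.hom (c.π.app p) ≫ pullback.fst U.hom (D.map b') =
      pullback.fst U.hom (c.π.app k) := by
    refine (congrArg ((inv (bcHom (c.w b') U)).left ≫ ·) (bcHom_fst (c.w b') U).symm).trans ?_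
    refine (Category.assoc _ _ _).symm.trans ?_
    exact (congrArg (fun z : (EtCoh.bc (c.π.app k)).obj U ⟶ (EtCoh.bc (c.π.app k)).obj U =>
      z.left ≫ pullback.fst U.hom (c.π.app k)) (IsIso.inv_hom_id (bcHom (c.w b') U))).trans (Category.id_comp _)
  refine (Category.assoc _ _ _).trans ((congrArg (_ ≫ ·) (bcHom_fst (c.w (φ ≫ b')) U)).trans ?_)
  refine (bc_map_fst_assoc (c.π.app q) η _).trans ?_
  refine (congrArg (_ ≫ ·) (pullback.lift_fst _ _ _)).trans ?_
  refine (Category.assoc _ _ _).symm.trans ?_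
  refine (congrArg (· ≫ gm ≫ pullback.fst U.hom (D.map b')) hκ.symm).trans ?_
  refine (Category.assoc _ _ _).trans ((congrArg (κ.left ≫ ·) ((Category.assoc _ _ _).symm.trans
    (congrArg (· ≫ pullback.fst U.hom (D.map b')) hg2))).trans ?_)
  refine Eq.trans ?_ (congrArg (fun z : (EtCoh.bc (c.π.app q)).obj ((EtCoh.bc (D.map (φ ≫ b))).obj W) ⟶
    (EtCoh.bc (c.π.app j)).obj W => (z ≫ h).left ≫ pullback.fst U.hom (c.π.app k)) hκb)
  refine (congrArg (fun z => κ.left ≫ z) ((Category.assoc _ _ _).trans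
    ((congrArg ((bcHom (c.w b) W).left ≫ ·) ((Category.assoc _ _ _).trans (congrArg (h.left ≫ ·) hinv)))))).trans ?_
  exact (Category.assoc _ _ _).symm.trans rfl

namespace SheafSystem

/-- sections of the limit sheaf come from the stages near points -/
def PtSurj : Prop :=
  ∀ (W : c.pt.Etale) (t : EtCoh.sect G W) (x : W.left),
    ∃ (k : I) (U : (D.obj k).Etale) (r : EtCoh.sect (S.obj k) U) (V : c.pt.Etale) (g : V ⟶ W) (v : V.left)
      (h : V ⟶ (EtCoh.bc (c.π.app k)).obj U),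
      g.left.base v = x ∧ G.obj.map g.op t = G.obj.map h.op ((S.β k).hom.app (op U) r)

/-- `s` represents the pullback of `t` along `τ` after base change by `a` -/
def Rep {j : I} (W : (D.obj j).Etale) {U' : c.pt.Etale} (τ : (EtCoh.bc (c.π.app j)).obj W ⟶ U')
    (t : EtCoh.sect G U') {q : I} (a : q ⟶ j) (s : EtCoh.sect (S.obj q) ((EtCoh.bc (D.map a)).obj W)) : Prop :=
  (S.β q).hom.app (op ((EtCoh.bc (D.map a)).obj W)) s = G.obj.map (bcHom (c.w a) W ≫ τ).op t

theorem β_α_app {k q : I} (a : q ⟶ k) (U : (D.obj k).Etale) (r : EtCoh.sect (S.obj k) U) :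
    (S.β q).hom.app (op ((EtCoh.bc (D.map a)).obj U)) ((S.α a).hom.app (op U) r) =
      G.obj.map (bcHom (c.w a) U).op ((S.β k).hom.app (op U) r) :=
  (congrArg (fun z => z.hom.app (op U) r) (S.α_β a)).symm.trans (θIso_app (c.w a) G U _)

theorem Rep.step {j : I} {W : (D.obj j).Etale} {U' : c.pt.Etale} {τ : (EtCoh.bc (c.π.app j)).obj W ⟶ U'}
    {t : EtCoh.sect G U'} {q : I} {a : q ⟶ j} {s : EtCoh.sect (S.obj q) ((EtCoh.bc (D.map a)).obj W)}
    (hs : S.Rep W τ t a s) {n : I} (f : n ⟶ q) (a' : n ⟶ j) (h : f ≫ a = a') :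
    ∃ s', S.Rep W τ t a' s' := by
  subst h
  let m := bcHom (D.map_comp f a).symm W
  refine ⟨(S.obj n).obj.map (inv m).op ((S.α f).hom.app (op ((EtCoh.bc (D.map a)).obj W)) s), ?_⟩
  refine (congrArg (fun z => z ((S.α f).hom.app (op ((EtCoh.bc (D.map a)).obj W)) s))
    ((S.β n).hom.naturality (inv m).op)).trans ?_
  refine (congrArg (G.obj.map ((EtCoh.bc (c.π.app n)).map (inv m)).op)
    ((S.β_α_app f _ s).trans (congrArg _ hs))).trans ?_
  refine (congrArg (G.obj.map ((EtCoh.bc (c.π.app n)).map (inv m)).op)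
    (congrArg (fun z => z t) (G.obj.map_comp (bcHom (c.w a) W ≫ τ).op
      (bcHom (c.w f) ((EtCoh.bc (D.map a)).obj W)).op)).symm).trans ?_
  refine (map_map _ _ t).trans ?_
  refine congrArg (fun z => G.obj.map (Quiver.Hom.op z) t) ?_
  refine ((congrArg (((EtCoh.bc (c.π.app n)).map (inv m)) ≫ ·) (Category.assoc _ _ _).symm).trans
    (Category.assoc _ _ _).symm).trans (congrArg (· ≫ τ) ?_)
  refine (congrArg (_ ≫ ·) (bcHom_assoc (c.w a) (c.w f) (c.w (f ≫ a)) (D.map_comp f a).symm W)).trans ?_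
  refine (Category.assoc _ _ _).symm.trans ?_
  refine (congrArg (· ≫ bcHom (c.w (f ≫ a)) W) (((EtCoh.bc (c.π.app n)).map_comp (inv m) m).symm.trans
    ((congrArg (EtCoh.bc (c.π.app n)).map (IsIso.inv_hom_id m)).trans ((EtCoh.bc (c.π.app n)).map_id _)))).trans ?_
  exact Category.id_comp _

variable [IsCofiltered I] (hc : IsLimit c) [∀ (i j : I) (a : i ⟶ j), IsAffineHom (D.map a)]

include hc in
theorem exists_rep_descend {j : I} (W : (D.obj j).Etale) [CompactSpace W.left] [QuasiSeparatedSpace W.left]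
    {U' V : c.pt.Etale} (τ : (EtCoh.bc (c.π.app j)).obj W ⟶ U') (t : EtCoh.sect G U') (g : V ⟶ U')
    (ψ : (EtCoh.bc (c.π.app j)).obj W ⟶ V) (hψ : ψ ≫ g = τ) {k : I} (U : (D.obj k).Etale)
    (r : EtCoh.sect (S.obj k) U) (h : V ⟶ (EtCoh.bc (c.π.app k)).obj U)
    (hh : G.obj.map g.op t = G.obj.map h.op ((S.β k).hom.app (op U) r)) :
    ∃ (q : I) (a : q ⟶ j) (s : _), S.Rep W τ t a s := by
  obtain ⟨q, c₁, c₂, η, hη⟩ := exists_hom_descend hc W U (ψ ≫ h)
  refine ⟨q, c₁, (S.obj q).obj.map η.op ((S.α c₂).hom.app (op U) r), ?_⟩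
  refine (congrArg (fun z => z ((S.α c₂).hom.app (op U) r)) ((S.β q).hom.naturality η.op)).trans ?_
  refine (congrArg (G.obj.map ((EtCoh.bc (c.π.app q)).map η).op) (S.β_α_app c₂ U r)).trans ?_
  refine (map_map _ _ _).trans ?_
  refine (congrArg (fun z => G.obj.map (Quiver.Hom.op z) ((S.β k).hom.app (op U) r))
    (hη.trans (Category.assoc _ _ _).symm)).trans ?_
  refine (congrArg (fun z => z ((S.β k).hom.app (op U) r)) (G.obj.map_comp h.op (bcHom (c.w c₁) W ≫ ψ).op)).trans ?_
  refine (congrArg (G.obj.map (bcHom (c.w c₁) W ≫ ψ).op) hh.symm).trans ?_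
  refine (congrArg (fun z => z t) (G.obj.map_comp g.op (bcHom (c.w c₁) W ≫ ψ).op)).symm.trans ?_
  exact congrArg (fun z => G.obj.map (Quiver.Hom.op z) t) ((Category.assoc _ _ _).trans (congrArg (_ ≫ ·) hψ))

include hc in
/-- a section of the limit sheaf is represented on a covering of a stage -/
theorem exists_cover_rep (hp : S.PtSurj) (i : I) (A : (D.obj i).Etale) (hA : IsAffine A.left)
    (t : EtCoh.sect G ((EtCoh.bc (c.π.app i)).obj A)) :
    ∃ (j : I) (a : j ⟶ i) (n : ℕ) (W : Fin n → (D.obj j).Etale) (ω : ∀ m, W m ⟶ (EtCoh.bc (D.map a)).obj A),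
      (∀ y, ∃ (m : Fin n) (w : (W m).left), (ω m).left.base w = y) ∧
      ∀ m, ∃ (q : I) (b : q ⟶ j) (s : _),
        S.Rep (W m) ((EtCoh.bc (c.π.app j)).map (ω m) ≫ bcHom (c.w a) A) t b s := by
  haveI := isAffineHom_π_app D c hc i
  let U₀ := (EtCoh.bc (c.π.app i)).obj A
  let X' : Scheme.{u} := pullback A.hom (c.π.app i)
  haveI hA' : IsAffine ((𝟭 Scheme.{u}).obj A.left) := hA
  haveI hfst : IsAffineHom (pullback.fst A.hom (c.π.app i)) := MorphismProperty.pullback_fst _ _ ‹_›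
  haveI hX' : IsAffine X' := isAffine_of_isAffineHom (pullback.fst A.hom (c.π.app i))
  have hloc : ∀ x : X', ∃ (k : I) (U : (D.obj k).Etale) (r : EtCoh.sect (S.obj k) U) (V : c.pt.Etale) (g : V ⟶ U₀)
      (v : V.left) (h : V ⟶ (EtCoh.bc (c.π.app k)).obj U), IsAffine V.left ∧ g.left.base v = x ∧
        G.obj.map g.op t = G.obj.map h.op ((S.β k).hom.app (op U) r) := fun x => by
    obtain ⟨k, U, r, V, g, v, h, hv, hh⟩ := hp U₀ t x
    obtain ⟨V', e, z, hV', hz⟩ := EtCechLib.exists_affine_over v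
    refine ⟨k, U, r, V', e ≫ g, z, e ≫ h, hV', (congrArg g.left.base hz).trans hv, ?_⟩
    exact (map_map e g t).symm.trans ((congrArg (G.obj.map e.op) hh).trans (map_map e h _))
  choose k U r V g v h hV hv hh using hloc
  let uF : ∀ x, (V x).left ⟶ X' := fun x => (g x).left
  haveI hEt : ∀ x, Etale (uF x) := fun x => MorphismProperty.of_postcomp (W := EtCoh.etaleMP)
    (W' := EtCoh.etaleMP) (uF x) U₀.hom U₀.prop ((MorphismProperty.Over.w (g x)).symm ▸ (V x).prop)
  haveI := hV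
  haveI : CompactSpace ((𝟭 Scheme.{u}).obj A.left) := inferInstance
  haveI : QuasiSeparatedSpace ((𝟭 Scheme.{u}).obj A.left) := inferInstance
  have hsq : IsPullback (pullback.snd A.hom (c.π.app i)) (pullback.fst A.hom (c.π.app i)) (c.π.app i) A.hom :=
    (IsPullback.of_hasPullback A.hom (c.π.app i)).flip
  let D' := LimSch.bcDiag D i A.hom
  let c' := LimSch.bcCone D c i A.hom (pullback.snd A.hom (c.π.app i)) (pullback.fst A.hom (c.π.app i)) hsq
  let uC : ∀ x, (V x).left ⟶ c'.pt := uF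
  haveI : ∀ x, LocallyOfFinitePresentation (uC x) := fun x => (inferInstance : LocallyOfFinitePresentation (uF x))
  haveI : ∀ x, QuasiCompact (uC x) := fun x => (inferInstance : QuasiCompact (uF x))
  haveI : ∀ x, QuasiSeparated (uC x) := fun x => (inferInstance : QuasiSeparated (uF x))
  obtain ⟨l, n, V', v', idx, e, hV', hcov, he⟩ := LimSch.exists_cover_stage @Etale
    (LimSch.DescendsAff.descends LimSch.descendsAff_etale)
    (fun f _ hf => haveI : Etale f := hf; f.isOpenMap) D' c'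
    (LimSch.isLimitBcCone D c i A.hom hc (pullback.snd A.hom (c.π.app i)) (pullback.fst A.hom (c.π.app i)) hsq)
    (Over.mk (𝟙 i)) (fun x => (V x).left) uC (fun x => hEt x) (fun x => ⟨x, v x, hv x⟩)
  let v₂ : ∀ m, V' m ⟶ pullback (D.map l.hom) A.hom := v'
  haveI : ∀ m, Etale (v₂ m) := fun m => (hV' m).1
  haveI : Etale (pullback.fst (D.map l.hom) A.hom) := MorphismProperty.pullback_fst _ _ A.prop
  let W : Fin n → (D.obj l.left).Etale := fun m => Scheme.Etale.mk (v₂ m ≫ pullback.fst (D.map l.hom) A.hom)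
  let ω : ∀ m, W m ⟶ (EtCoh.bc (D.map l.hom)).obj A := fun m => MorphismProperty.Over.homMk
    (v₂ m ≫ (pullbackSymmetry (D.map l.hom) A.hom).hom)
    ((Category.assoc _ _ _).trans (congrArg (v₂ m ≫ ·) (pullbackSymmetry_hom_comp_snd _ _)))
  refine ⟨l.left, l.hom, n, W, ω, fun y => ?_, fun m => ?_⟩
  · obtain ⟨m, z, hz⟩ := hcov ((pullbackSymmetry (D.map l.hom) A.hom).inv y)
    refine ⟨m, z, (congrArg (pullbackSymmetry (D.map l.hom) A.hom).hom.base hz).trans ?_⟩
    exact congrArg (fun k : pullback A.hom (D.map l.hom) ⟶ pullback A.hom (D.map l.hom) => k.base y)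
      (pullbackSymmetry (D.map l.hom) A.hom).inv_hom_id
  let uj := c.π.app l.left
  let τ : (EtCoh.bc uj).obj (W m) ⟶ U₀ := (EtCoh.bc uj).map (ω m) ≫ bcHom (c.w l.hom) A
  have hs : τ.left ≫ pullback.snd A.hom (c.π.app i) = pullback.snd (W m).hom uj := MorphismProperty.Over.w τ
  have hf : τ.left ≫ pullback.fst A.hom (c.π.app i) =
      pullback.fst (W m).hom uj ≫ v₂ m ≫ pullback.snd (D.map l.hom) A.hom := by
    refine (Category.assoc _ _ _).trans ((congrArg (((EtCoh.bc uj).map (ω m)).left ≫ ·)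
      (bcHom_fst (c.w l.hom) A)).trans ?_)
    refine (bc_map_fst_assoc uj (ω m) _).trans ?_
    exact congrArg (pullback.fst (W m).hom uj ≫ ·)
      ((Category.assoc _ _ _).trans (congrArg (v₂ m ≫ ·) (pullbackSymmetry_hom_comp_fst _ _)))
  have hcond : pullback.fst (W m).hom uj ≫ v₂ m = τ.left ≫
      pullback.lift (pullback.snd A.hom (c.π.app i) ≫ c.π.app l.left) (pullback.fst A.hom (c.π.app i))
        (by rw [Category.assoc, c.w]; exact hsq.w) := by
    refine pullback.hom_ext ?_ ?_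
    · exact ((Category.assoc _ _ _).trans ((pullback.condition (f := (W m).hom) (g := uj)).trans
        ((congrArg (· ≫ uj) hs.symm).trans (Category.assoc _ _ _)))).trans
        ((Category.assoc _ _ _).trans (congrArg (τ.left ≫ ·) (pullback.lift_fst _ _ _))).symm
    · exact ((Category.assoc _ _ _).trans hf.symm).trans
        ((Category.assoc _ _ _).trans (congrArg (τ.left ≫ ·) (pullback.lift_snd _ _ _))).symm
  let ψl : ((EtCoh.bc uj).obj (W m)).left ⟶ (V (idx m)).left :=
    (he m).lift (pullback.fst (W m).hom uj) τ.left hcond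
  have hψ : ψl ≫ (g (idx m)).left = τ.left := (he m).lift_snd _ _ _
  let ψ : (EtCoh.bc uj).obj (W m) ⟶ V (idx m) := MorphismProperty.Over.homMk ψl
    ((congrArg (ψl ≫ ·) (MorphismProperty.Over.w (g (idx m))).symm).trans
      ((Category.assoc _ _ _).symm.trans ((congrArg (· ≫ U₀.hom) hψ).trans (MorphismProperty.Over.w τ))))
  haveI : CompactSpace ↥(pullback (D.map l.hom) A.hom) :=
    (inferInstance : CompactSpace ↥((LimSch.bcDiag D i A.hom).obj l))
  haveI : QuasiSeparatedSpace ↥(pullback (D.map l.hom) A.hom) :=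
    (inferInstance : QuasiSeparatedSpace ↥((LimSch.bcDiag D i A.hom).obj l))
  haveI : QuasiCompact (v₂ m) := (hV' m).2.2.1
  haveI : QuasiSeparated (v₂ m) := (hV' m).2.2.2
  haveI : CompactSpace (W m).left := (QuasiCompact.compactSpace_of_compactSpace (v₂ m) : CompactSpace (V' m))
  haveI : QuasiSeparatedSpace (W m).left :=
    (quasiSeparatedSpace_of_quasiSeparated (v₂ m) : QuasiSeparatedSpace (V' m))
  exact S.exists_rep_descend hc (W m) τ t (g (idx m)) ψ (MorphismProperty.Over.Hom.ext hψ) (U (idx m))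
    (r (idx m)) (h (idx m)) (hh (idx m))

include hc in
theorem locSurj_of_pt (hp : S.PtSurj) (hi : S.LocInj) : S.LocSurj := by
  intro i A hA t
  obtain ⟨j, a, n, W, ω, hcov, hrep⟩ := S.exists_cover_rep hc hp i A hA t
  choose q b s hs using hrep
  classical
  obtain ⟨N, hN⟩ := IsCofiltered.inf_objs_exists (Finset.univ.image fun m => Over.mk (b m))
  have hrep' : ∀ m, ∃ s', S.Rep (W m) ((EtCoh.bc (c.π.app j)).map (ω m) ≫ bcHom (c.w a) A) t N.hom s' := fun m => by
    obtain ⟨f⟩ := hN (Finset.mem_image_of_mem _ (Finset.mem_univ m))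
    exact Rep.step S (hs m) f.left N.hom (Over.w f)
  choose s' hs' using hrep'
  let nn := N.left
  let an : nn ⟶ j := N.hom
  let B₀ := (EtCoh.bc (D.map a)).obj A
  let B := (EtCoh.bc (D.map an)).obj B₀
  let τB : (EtCoh.bc (c.π.app nn)).obj B ⟶ (EtCoh.bc (c.π.app i)).obj A := bcHom (c.w an) B₀ ≫ bcHom (c.w a) A
  haveI hB₀ : IsAffine B₀.left := by
    haveI h' : IsAffine ((𝟭 Scheme.{u}).obj A.left) := hA
    haveI hb : IsAffineHom (D.map a) := inferInstance
    haveI hp : IsAffineHom (pullback.fst A.hom (D.map a)) :=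
      MorphismProperty.pullback_fst (P := @IsAffineHom) _ _ hb
    exact @isAffine_of_isAffineHom _ _ (pullback.fst A.hom (D.map a)) hp h'
  haveI hB : IsAffine B.left := by
    haveI h' : IsAffine ((𝟭 Scheme.{u}).obj B₀.left) := hB₀
    haveI hb : IsAffineHom (D.map an) := inferInstance
    haveI hp : IsAffineHom (pullback.fst B₀.hom (D.map an)) :=
      MorphismProperty.pullback_fst (P := @IsAffineHom) _ _ hb
    exact @isAffine_of_isAffineHom _ _ (pullback.fst B₀.hom (D.map an)) hp h'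
  let tn : EtCoh.sect ((EtCoh.push (c.π.app nn)).obj G) B := G.obj.map τB.op t
  haveI : IsFiltered (AsSmall.{u + 1} (Over nn)ᵒᵖ) := IsFiltered.of_equivalence AsSmall.equiv
  let K := AsSmall.down.{u, u, u + 1} ⋙ S.stageDiag nn
  let d := colimit.desc K (S.stageCocone nn)
  haveI : Mono d := S.mono_desc hi nn
  let T := ShortComplex.mk d (cokernel.π d) (cokernel.condition d)
  haveI : Mono T.f := inferInstanceAs (Mono d)
  have hT : T.Exact := T.exact_of_g_is_cokernel (cokernelIsCokernel d)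
  have hzero : (cokernel.π d).hom.app (op B) tn = 0 := by
    refine EtSh.sect_ext (cokernel d) fun y => ?_
    obtain ⟨m, w, hw⟩ := hcov ((pullback.fst B₀.hom (D.map an) : B.left ⟶ B₀.left).base y)
    obtain ⟨z, hz, -⟩ := Scheme.exists_preimage_of_isPullback (EtCoh.isPullback_bc_map (D.map an) (ω m)) y w hw.symm
    refine ⟨_, (EtCoh.bc (D.map an)).map (ω m), z, hz, Eq.trans ?_ (map_zero ((cokernel d).obj.map _).hom).symm⟩
    refine (congrArg (fun k => k tn) ((cokernel.π d).hom.naturality ((EtCoh.bc (D.map an)).map (ω m)).op)).symm.trans ?_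
    let o : Over nn := Over.mk (𝟙 nn)
    let oo : AsSmall.{u + 1} (Over nn)ᵒᵖ := AsSmall.up.obj (op o)
    let Wn := (EtCoh.bc (D.map an)).obj (W m)
    let e : EtCoh.sect (colimit K) Wn :=
      (colimit.ι K oo).hom.app (op Wn) ((S.proj o).hom.app (op Wn) ((S.α o.hom).hom.app (op Wn) (s' m)))
    have he : d.hom.app (op Wn) e = (S.β nn).hom.app (op Wn) (s' m) := by
      refine (congrArg (fun z => z.hom.app (op Wn) ((S.proj o).hom.app (op Wn) ((S.α o.hom).hom.app (op Wn) (s' m))))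
        (colimit.ι_desc (S.stageCocone nn) oo)).trans ?_
      refine (congrArg (fun z => z.hom.app (op Wn) ((S.α o.hom).hom.app (op Wn) (s' m))) (S.proj_γ o)).trans ?_
      exact congrArg (fun z => z.hom.app (op Wn) (s' m)) (S.α_γ o.hom)
    have h3 : ((EtCoh.push (c.π.app nn)).obj G).obj.map ((EtCoh.bc (D.map an)).map (ω m)).op tn =
        (S.β nn).hom.app (op Wn) (s' m) := by
      refine Eq.trans ?_ (hs' m).symm
      refine (map_map ((EtCoh.bc (c.π.app nn)).map ((EtCoh.bc (D.map an)).map (ω m))) τB t).trans ?_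
      refine congrArg (fun z => G.obj.map (Quiver.Hom.op z) t) ?_
      refine (Category.assoc _ _ _).symm.trans ?_
      exact (congrArg (· ≫ bcHom (c.w a) A) (bcHom_naturality (c.w an) (ω m))).trans (Category.assoc _ _ _)
    refine (congrArg ((cokernel.π d).hom.app (op Wn)) (h3.trans he.symm)).trans ?_
    exact congrArg (fun z => z.hom.app (op Wn) e) (cokernel.condition d)
  obtain ⟨e, he⟩ := EtSh.app_exact hT B tn hzero
  haveI : CompactSpace B.left := inferInstance
  haveI : QuasiSeparatedSpace B.left := inferInstance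
  obtain ⟨p, r, hr⟩ := EtSh.exists_sect_rep_qcqs (colimit.isColimit K) e
  let P := (AsSmall.down.obj p).unop
  let rF : EtCoh.sect (S.obj P.left) ((EtCoh.bc (D.map P.hom)).obj B) := (S.κι P).hom.app (op B) r
  have h4 : (S.β P.left).hom.app (op ((EtCoh.bc (D.map P.hom)).obj B)) rF =
      G.obj.map (bcHom (c.w P.hom) B).op tn := by
    refine Eq.trans ?_ (θIso_app (c.w P.hom) G B tn)
    have h5 : (S.γ P.hom).hom.app (op B) rF = tn := by
      refine Eq.trans ?_ ((congrArg (d.hom.app (op B)) hr).trans he)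
      exact (congrArg (fun z => z.hom.app (op B) r) (colimit.ι_desc (S.stageCocone nn) p)).symm
    refine Eq.trans ?_ (congrArg (((θIso (c.w P.hom)).hom.app G).hom.app (op B)) h5)
    exact congrArg (fun z : (EtCoh.push (c.π.app P.left) ⋙ EtCoh.push (D.map P.hom)).obj G ⟶
        (EtCoh.push (c.π.app P.left) ⋙ EtCoh.push (D.map P.hom)).obj G =>
      z.hom.app (op B) ((S.β P.left).hom.app (op ((EtCoh.bc (D.map P.hom)).obj B)) rF))
        ((θIso (c.w P.hom)).inv_hom_id_app G).symm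
  let b₁ : P.left ⟶ j := P.hom ≫ an
  let M : (EtCoh.bc (D.map P.hom)).obj B ⟶ (EtCoh.bc (D.map (b₁ ≫ a))).obj A :=
    bcHom (D.map_comp P.hom an).symm B₀ ≫ bcHom (D.map_comp b₁ a).symm A
  refine ⟨P.left, b₁ ≫ a, (S.obj P.left).obj.map (inv M).op rF, ?_⟩
  refine (congrArg (fun z => z rF) ((S.β P.left).hom.naturality (inv M).op)).trans ?_
  refine (congrArg (G.obj.map ((EtCoh.bc (c.π.app P.left)).map (inv M)).op)
    (h4.trans (congrArg (fun z => z t) (G.obj.map_comp τB.op (bcHom (c.w P.hom) B).op)).symm)).trans ?_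
  refine (map_map _ _ t).trans ?_
  refine congrArg (fun z => G.obj.map (Quiver.Hom.op z) t) ?_
  have hM : bcHom (c.w P.hom) B ≫ τB = (EtCoh.bc (c.π.app P.left)).map M ≫ bcHom (c.w (b₁ ≫ a)) A := by
    refine (Category.assoc _ _ _).symm.trans ?_
    refine (congrArg (· ≫ bcHom (c.w a) A)
      (bcHom_assoc (c.w an) (c.w P.hom) (c.w b₁) (D.map_comp P.hom an).symm B₀)).trans ?_
    refine (Category.assoc _ _ _).trans ?_
    refine (congrArg (_ ≫ ·) (bcHom_assoc (c.w a) (c.w b₁) (c.w (b₁ ≫ a)) (D.map_comp b₁ a).symm A)).trans ?_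
    exact (Category.assoc _ _ _).symm.trans (congrArg (· ≫ _) ((EtCoh.bc (c.π.app P.left)).map_comp _ _).symm)
  refine (congrArg (((EtCoh.bc (c.π.app P.left)).map (inv M)) ≫ ·) hM).trans ?_
  refine (Category.assoc _ _ _).symm.trans ?_
  refine (congrArg (· ≫ bcHom (c.w (b₁ ≫ a)) A) (((EtCoh.bc (c.π.app P.left)).map_comp (inv M) M).symm.trans
    ((congrArg (EtCoh.bc (c.π.app P.left)).map (IsIso.inv_hom_id M)).trans ((EtCoh.bc (c.π.app P.left)).map_id _)))).trans ?_
  exact Category.id_comp _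

end SheafSystem

end Groth.Agent.EtLimLib
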