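import Groth.Agent.EtLimLib.PullSystem

/-!
# Associativity of the composition isomorphisms of inverse image
-/

noncomputable section

set_option autoImplicit false
set_option linter.style.haveILetI false
set_option backward.isDefEq.respectTransparency.types false

universe u

open CategoryTheory CategoryTheory.Limits AlgebraicGeometry Opposite

namespace Groth.Agent.EtLimLib

variable {W X Y Z : Scheme.{u}}

/-- `f⁻¹ ≅ h⁻¹ g⁻¹` for `f = h ≫ g` -/
abbrev pullIso {g : Y ⟶ Z} {h : X ⟶ Y} {f : X ⟶ Z} (w : h ≫ g = f) :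
    EtCoh.pull f ≅ EtCoh.pull g ⋙ EtCoh.pull h :=
  EtCore.pullCongr w.symm ≪≫ EtCore.pullComp h g

theorem transpose_pullIso {g : Y ⟶ Z} {h : X ⟶ Y} {f : X ⟶ Z} (w : h ≫ g = f) (A : EtCoh.Ab Z) :
    (EtCoh.pullPushAdj f).homEquiv A _ ((pullIso w).hom.app A) ≫
        (θIso w).hom.app ((EtCoh.pull h).obj ((EtCoh.pull g).obj A)) =
      (EtCoh.pullPushAdj g).homEquiv A _ (𝟙 _) ≫
        (EtCoh.push g).map ((EtCoh.pullPushAdj h).homEquiv ((EtCoh.pull g).obj A) _ (𝟙 _)) := by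
  refine Eq.trans ?_ (transpose_comp w (𝟙 ((EtCoh.pull g).obj A)) (𝟙 _))
  refine congrArg (fun z => (EtCoh.pullPushAdj f).homEquiv A _ z ≫ (θIso w).hom.app _) ?_
  exact ((congrArg ((pullIso w).hom.app A ≫ ·) ((congrArg (· ≫ 𝟙 _) ((EtCoh.pull h).map_id _)).trans
    (Category.id_comp _))).trans (Category.comp_id _)).symm

variable {g : Y ⟶ Z} {h : X ⟶ Y} {k : W ⟶ X} {f : W ⟶ Z} {hg : X ⟶ Z} {kh : W ⟶ Y}
  (w₁ : kh ≫ g = f) (w₂ : k ≫ h = kh) (w₃ : k ≫ hg = f) (w₄ : h ≫ g = hg)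

theorem pullIso_assoc (A : EtCoh.Ab Z) :
    (pullIso w₃).hom.app A ≫ (EtCoh.pull k).map ((pullIso w₄).hom.app A) =
      (pullIso w₁).hom.app A ≫ (pullIso w₂).hom.app ((EtCoh.pull g).obj A) := by
  apply ((EtCoh.pullPushAdj f).homEquiv A _).injective
  let M := (EtCoh.pull k).obj ((EtCoh.pull h).obj ((EtCoh.pull g).obj A))
  let ηg := (EtCoh.pullPushAdj g).homEquiv A _ (𝟙 ((EtCoh.pull g).obj A))
  let ηh := (EtCoh.pullPushAdj h).homEquiv ((EtCoh.pull g).obj A) _ (𝟙 ((EtCoh.pull h).obj ((EtCoh.pull g).obj A)))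
  let ηk := (EtCoh.pullPushAdj k).homEquiv ((EtCoh.pull h).obj ((EtCoh.pull g).obj A)) _ (𝟙 M)
  have hL : (EtCoh.pullPushAdj f).homEquiv A M ((pullIso w₃).hom.app A ≫ (EtCoh.pull k).map ((pullIso w₄).hom.app A)) ≫
      ((θIso w₃).hom.app M ≫ (θIso w₄).hom.app ((EtCoh.push k).obj M)) =
      ηg ≫ (EtCoh.push g).map (ηh ≫ (EtCoh.push h).map ηk) := by
    refine (Category.assoc _ _ _).symm.trans ?_
    refine (congrArg (· ≫ (θIso w₄).hom.app ((EtCoh.push k).obj M)) ((congrArg (fun z =>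
      (EtCoh.pullPushAdj f).homEquiv A M ((pullIso w₃).hom.app A ≫ z) ≫ (θIso w₃).hom.app M)
      (Category.comp_id _).symm).trans (transpose_comp w₃ ((pullIso w₄).hom.app A) (𝟙 M)))).trans ?_
    refine (Category.assoc _ _ _).trans ((congrArg (_ ≫ ·) ((θIso w₄).hom.naturality ηk)).trans ?_)
    refine (Category.assoc _ _ _).symm.trans ((congrArg (· ≫ _) (transpose_pullIso w₄ A)).trans ?_)
    exact (Category.assoc _ _ _).trans (congrArg (ηg ≫ ·) ((EtCoh.push g).map_comp _ _).symm)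
  have hR : (EtCoh.pullPushAdj f).homEquiv A M ((pullIso w₁).hom.app A ≫ (pullIso w₂).hom.app ((EtCoh.pull g).obj A)) ≫
      ((θIso w₁).hom.app M ≫ (EtCoh.push g).map ((θIso w₂).hom.app M)) =
      ηg ≫ (EtCoh.push g).map (ηh ≫ (EtCoh.push h).map ηk) := by
    refine (Category.assoc _ _ _).symm.trans ?_
    refine (congrArg (· ≫ (EtCoh.push g).map ((θIso w₂).hom.app M)) ((congrArg (fun z =>
      (EtCoh.pullPushAdj f).homEquiv A M ((pullIso w₁).hom.app A ≫ z) ≫ (θIso w₁).hom.app M)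
      ((congrArg (· ≫ (pullIso w₂).hom.app _) ((EtCoh.pull kh).map_id _)).trans (Category.id_comp _)).symm).trans
      (transpose_comp w₁ (𝟙 _) ((pullIso w₂).hom.app ((EtCoh.pull g).obj A))))).trans ?_
    refine (Category.assoc _ _ _).trans (congrArg (ηg ≫ ·) ?_)
    exact ((EtCoh.push g).map_comp _ _).symm.trans
      (congrArg (EtCoh.push g).map (transpose_pullIso w₂ ((EtCoh.pull g).obj A)))
  refine (cancel_mono ((θIso w₁).hom.app M ≫ (EtCoh.push g).map ((θIso w₂).hom.app M))).1 ?_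
  exact ((congrArg (_ ≫ ·) (θIso_assoc w₁ w₂ w₃ w₄ M)).trans hL).trans hR.symm

/-- the inverse form of `pullIso_assoc` -/
theorem pullIso_assoc_inv (A : EtCoh.Ab Z) :
    (pullIso w₁).inv.app A =
      (pullIso w₂).hom.app ((EtCoh.pull g).obj A) ≫ (EtCoh.pull k).map ((pullIso w₄).inv.app A) ≫
        (pullIso w₃).inv.app A := by
  refine (cancel_epi ((pullIso w₁).hom.app A)).1 ?_
  refine ((pullIso w₁).hom_inv_id_app A).trans ?_
  refine Eq.trans ?_ (Category.assoc _ _ _)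
  refine Eq.trans ?_ (congrArg (fun z => z ≫ (EtCoh.pull k).map ((pullIso w₄).inv.app A) ≫ (pullIso w₃).inv.app A)
    (pullIso_assoc w₁ w₂ w₃ w₄ A))
  refine Eq.symm ((Category.assoc _ _ _).trans ((congrArg (_ ≫ ·) ((Category.assoc _ _ _).symm.trans
    ((congrArg (· ≫ (pullIso w₃).inv.app A) (((EtCoh.pull k).map_comp _ _).symm.trans
      ((congrArg (EtCoh.pull k).map ((pullIso w₄).hom_inv_id_app A)).trans ((EtCoh.pull k).map_id _)))).trans
      (Category.id_comp _)))).trans ((pullIso w₃).hom_inv_id_app A)))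

theorem pullComp_symm_eq {g : Y ⟶ Z} {h : X ⟶ Y} {f : X ⟶ Z} (w : h ≫ g = f) (A : EtCoh.Ab Z) :
    (((EtCore.pullComp h g).symm ≪≫ EtCore.pullCongr w).app A).hom = (pullIso w).inv.app A := by
  subst w
  rfl

theorem hpullThen_apply (f : X ⟶ Y) [PreservesFiniteLimits (EtCoh.pull f)] (A : EtCoh.Ab Y) {M : EtCoh.Ab X}
    (a : (EtCoh.pull f).obj A ⟶ M) (n : ℕ) (x : EtCoh.H Y A n) :
    EtLim.HpullThen f A a n x = Sheaf.H.map a n (EtCore.Hpull f A n x) := rfl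

theorem hpullVia_apply {g : Y ⟶ Z} {h : X ⟶ Y} {f : X ⟶ Z} (w : h ≫ g = f) [PreservesFiniteLimits (EtCoh.pull h)]
    (A : EtCoh.Ab Z) (n : ℕ) (x : EtCoh.H Y ((EtCoh.pull g).obj A) n) :
    EtCore.HpullVia h g f w A n x =
      Sheaf.H.map (((EtCore.pullComp h g).symm ≪≫ EtCore.pullCongr w).app A).hom n (EtCore.Hpull h _ n x) := rfl

end Groth.Agent.EtLimLib
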