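import Groth.Agent.EtLimLib.PointwiseSurj
import Groth.Agent.EtSh.Pull
import Groth.Prelude.Def_EtLim

/-!
# The system of sheaves attached to a compatible system under pullback
-/

noncomputable section

set_option autoImplicit false
set_option linter.style.haveILetI false
set_option linter.unusedSectionVars false
set_option backward.isDefEq.respectTransparency.types false

universe u

open CategoryTheory CategoryTheory.Limits AlgebraicGeometry Opposite CategoryTheory.Abelian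

namespace Groth.Agent.EtLimLib

section General

variable {X Y Z : Scheme.{u}}

theorem pushCongr_refl_hom (f : X ⟶ Z) (F : EtCoh.Ab X) :
    (EtCoh.pushCongr (rfl : f = f)).hom.app F = 𝟙 _ := by
  refine ObjectProperty.hom_ext _ (NatTrans.ext (funext fun V => ?_))
  obtain ⟨V⟩ := V
  let e := (MorphismProperty.Over.pullbackCongr (P := EtCoh.etaleMP) (Q := ⊤) (rfl : f = f)).app V
  have h1 : e.hom.left ≫ pullback.fst V.hom f = pullback.fst V.hom f :=
    MorphismProperty.Over.pullbackCongr_hom_app_left_fst (P := EtCoh.etaleMP) (Q := ⊤) (rfl : f = f) V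
  have h2 : e.inv = 𝟙 _ := by
    refine (Iso.inv_eq_inv e (Iso.refl _)).2 ?_
    exact bc_hom_ext (h1.trans (Category.id_comp _).symm)
  exact (congrArg (fun k => F.obj.map (Quiver.Hom.op k)) h2).trans (F.obj.map_id _)

/-- transposes of composites -/
theorem transpose_comp {g : Y ⟶ Z} {h : X ⟶ Y} {f : X ⟶ Z} (w : h ≫ g = f) {A : EtCoh.Ab Z} {B : EtCoh.Ab Y}
    {C : EtCoh.Ab X} (p : (EtCoh.pull g).obj A ⟶ B) (q : (EtCoh.pull h).obj B ⟶ C) :
    (EtCoh.pullPushAdj f).homEquiv A C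
        ((EtCore.pullCongr w.symm ≪≫ EtCore.pullComp h g).hom.app A ≫ (EtCoh.pull h).map p ≫ q) ≫
      (θIso w).hom.app C =
      (EtCoh.pullPushAdj g).homEquiv A B p ≫ (EtCoh.push g).map ((EtCoh.pullPushAdj h).homEquiv B C q) := by
  subst w
  let adj1 := ((EtCoh.pullPushAdj g).comp (EtCoh.pullPushAdj h)).ofNatIsoRight (EtCoh.pushComp g h)
  let k := (EtCoh.pull h).map p ≫ q
  have h0 : (EtCore.pullCongr (rfl : h ≫ g = h ≫ g) ≪≫ EtCore.pullComp h g).hom.app A =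
      (EtCore.pullComp h g).hom.app A := Category.id_comp _
  have h1 := Adjunction.homEquiv_leftAdjointUniq_hom_app (EtCoh.pullPushAdj (h ≫ g)) adj1 A
  have h2 : (EtCoh.pullPushAdj (h ≫ g)).homEquiv A C ((EtCore.pullComp h g).hom.app A ≫ k) =
      adj1.homEquiv A C k := by
    refine (Adjunction.homEquiv_naturality_right _ _ _).trans ?_
    refine (congrArg (· ≫ (EtCoh.push (h ≫ g)).map k) h1).trans ?_
    exact (Adjunction.homEquiv_unit adj1 _ _ k).symm
  have h3 : adj1.homEquiv A C k =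
      ((EtCoh.pullPushAdj g).homEquiv A _ p ≫ (EtCoh.push g).map ((EtCoh.pullPushAdj h).homEquiv B C q)) ≫
        (EtCoh.pushComp g h).hom.app C := by
    refine (Adjunction.homEquiv_ofNatIsoRight_apply _ _ _).trans ?_
    rw [Adjunction.comp_homEquiv]
    refine congrArg (fun z => z ≫ (EtCoh.pushComp g h).hom.app C) ?_
    exact (congrArg ((EtCoh.pullPushAdj g).homEquiv A _)
      ((EtCoh.pullPushAdj h).homEquiv_naturality_left p q)).trans
        ((EtCoh.pullPushAdj g).homEquiv_naturality_right _ _)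
  refine (congrArg₂ (· ≫ ·) ((congrArg (fun z => (EtCoh.pullPushAdj (h ≫ g)).homEquiv A C (z ≫ k)) h0).trans
    (h2.trans h3)) ((congrArg (· ≫ (EtCoh.pushComp g h).inv.app C) (pushCongr_refl_hom (h ≫ g) C)).trans
      (Category.id_comp _))).trans ?_
  exact (Category.assoc _ _ _).trans ((congrArg (_ ≫ ·) ((EtCoh.pushComp g h).hom_inv_id_app C)).trans
    (Category.comp_id _))

/-- `HofPush` of a transposed class is pull back then compose -/
theorem hpullThen_eq (f : X ⟶ Y) [PreservesFiniteLimits (EtCoh.pull f)] {A : EtCoh.Ab Y} {M : EtCoh.Ab X}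
    (k : (EtCoh.pull f).obj A ⟶ M) (n : ℕ) (x : EtCoh.H Y A n) :
    EtLim.HofPush f M n (Sheaf.H.map ((EtCoh.pullPushAdj f).homEquiv A M k) n x) = EtLim.HpullThen f A k n x := by
  have hk : (EtCoh.pull f).map ((EtCoh.pullPushAdj f).homEquiv A M k) ≫ (EtCoh.pullPushAdj f).counit.app M = k :=
    (Adjunction.homEquiv_counit _ _ _ _).symm.trans (Equiv.symm_apply_apply _ _)
  rw [hofPush_eq, SiteCoh.adjMap, Sheaf.H.map_apply, Ext.mapExactFunctor_comp, Ext.mapExactFunctor_mk₀]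
  refine Eq.trans ?_ (congrArg (fun z => ((Ext.mk₀ (EtCore.pullConst f ℤ).inv).comp
    (x.mapExactFunctor (EtCoh.pull f)) (zero_add n)).comp (Ext.mk₀ z) (add_zero n)) hk)
  rw [← Ext.mk₀_comp_mk₀]
  simp only [← Ext.comp_assoc_of_second_deg_zero]
  exact congrArg (fun e => Ext.comp e (Ext.mk₀ ((EtCoh.pullPushAdj f).counit.app M)) (add_zero n))
    (Ext.comp_assoc_of_third_deg_zero (Ext.mk₀ (EtCore.pullConst f ℤ).inv) (x.mapExactFunctor (EtCoh.pull f))
      (Ext.mk₀ ((EtCoh.pull f).map ((EtCoh.pullPushAdj f).homEquiv A M k))) (zero_add n)).symm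

theorem stalk_map_map {Ω : Type u} [Field Ω] [IsSepClosed Ω] (ξ : Spec (CommRingCat.of Ω) ⟶ X)
    {A B C : EtCoh.Ab X} (p : A ⟶ B) (q : B ⟶ C) (x : ↑((EtCoh.stalk ξ).obj A)) :
    (EtCoh.stalk ξ).map q ((EtCoh.stalk ξ).map p x) = (EtCoh.stalk ξ).map (p ≫ q) x :=
  (congrArg (fun z => z x) ((EtCoh.stalk ξ).map_comp p q)).symm

variable (f : X ⟶ Y) {Ω : Type u} [Field Ω] [IsSepClosed Ω] (ξ : Spec (CommRingCat.of Ω) ⟶ X)

theorem germ_transpose {A : EtCoh.Ab Y} {M : EtCoh.Ab X} (k : (EtCoh.pull f).obj A ⟶ M) {U : Y.Etale}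
    (τ : EtSh.Fib (ξ ≫ f) U) (r : EtCoh.sect A U) :
    EtSh.germ ξ M ((EtSh.fibBC f ξ).inv.app U τ) (((EtCoh.pullPushAdj f).homEquiv A M k).hom.app (op U) r) =
      (EtCoh.stalk ξ).map k ((EtSh.stalkPullIso f ξ).inv.app A (EtSh.germ (ξ ≫ f) A τ r)) := by
  refine Eq.trans ?_ ((congrArg ((EtCoh.stalk ξ).map k) (EtSh.stalkPullIso_inv_germ f ξ A τ r)).trans
    (EtSh.stalk_map_germ k ((EtSh.fibBC f ξ).inv.app U τ) _)).symm
  exact congrArg (fun z : A ⟶ (EtCoh.push f).obj M => EtSh.germ ξ M ((EtSh.fibBC f ξ).inv.app U τ) (z.hom.app (op U) r))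
    (Adjunction.homEquiv_unit _ _ _ _)

end General

section System

variable {ι : Type u} [Preorder ι] [Nonempty ι] [IsDirected ι (· ≤ ·)] {Xs : ιᵒᵖ ⥤ Scheme.{u}} (c : Cone Xs)
  (F : ∀ i : ι, EtCoh.Ab (Xs.obj (op i)))
  (φ : ∀ ⦃i j : ι⦄ (h : i ≤ j), (EtCoh.pull (Xs.map (homOfLE h).op)).obj (F i) ⟶ F j)
  (hφ : ∀ ⦃i j k : ι⦄ (hij : i ≤ j) (hjk : j ≤ k),
    φ (hij.trans hjk) = (EtLim.pullTrans Xs hij hjk).hom.app (F i) ≫
      (EtCoh.pull (Xs.map (homOfLE hjk).op)).map (φ hij) ≫ φ hjk)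
  (G : ι ⥤ EtCoh.Ab c.pt) (ψ : ∀ i : ι, (EtCoh.pull (c.π.app (op i))).obj (F i) ≅ G.obj i)
  (hψ : ∀ ⦃i j : ι⦄ (hij : i ≤ j), (ψ i).hom ≫ G.map (homOfLE hij) =
    (EtLim.pullTransCone Xs c hij).hom.app (F i) ≫ (EtCoh.pull (c.π.app (op j))).map (φ hij) ≫ (ψ j).hom)

/-- the associated system -/
def pullSystem : SheafSystem c (colimit G) where
  obj i := F i.unop
  α {i j} a := (EtCoh.pullPushAdj (Xs.map a)).homEquiv _ _ (φ (leOfHom a.unop))
  β i := (EtCoh.pullPushAdj (c.π.app i)).homEquiv _ _ ((ψ i.unop).hom ≫ colimit.ι G i.unop)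
  α_comp {i j k} a b := by
    refine Eq.trans ?_ (transpose_comp (Xs.map_comp b a).symm (φ (leOfHom a.unop)) (φ (leOfHom b.unop)))
    exact congrArg (fun z => (EtCoh.pullPushAdj (Xs.map (b ≫ a))).homEquiv _ _ z ≫
      (θIso (Xs.map_comp b a).symm).hom.app (F k.unop)) (hφ (leOfHom a.unop) (leOfHom b.unop))
  α_β {i j} a := by
    refine Eq.trans ?_ (transpose_comp (c.w a) (φ (leOfHom a.unop)) ((ψ j.unop).hom ≫ colimit.ι G j.unop))
    refine congrArg (fun z => (EtCoh.pullPushAdj (c.π.app i)).homEquiv _ _ z ≫ (θIso (c.w a)).hom.app (colimit G)) ?_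
    refine (congrArg ((ψ i.unop).hom ≫ ·) (colimit.w G (homOfLE (leOfHom a.unop))).symm).trans ?_
    refine (Category.assoc _ _ _).symm.trans ((congrArg (· ≫ colimit.ι G j.unop) (hψ (leOfHom a.unop))).trans ?_)
    exact (Category.assoc _ _ _).trans (congrArg (_ ≫ ·) (Category.assoc _ _ _))

theorem ptSurj_pullSystem : (pullSystem c F φ hφ G ψ hψ).PtSurj := by
  haveI : IsFiltered ι := ⟨⟩
  intro W t x
  obtain ⟨Ω, _, _, ξ, hξ⟩ := EtSh.exists_geometric_point (W.hom.base x)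
  obtain ⟨t₀, rfl⟩ := EtSh.exists_fib (ξ := ξ) x (Set.eq_of_mem_singleton (hξ.le ⟨default, rfl⟩)).symm
  obtain ⟨k, q, hq⟩ := EtSh.exists_germ_rep (colimit.isColimit G) ξ (EtSh.germ ξ (colimit G) t₀ t)
  obtain ⟨U, τ, r, hr⟩ := EtSh.germ_surjective (F k)
    ((EtSh.stalkPullIso (c.π.app (op k)) ξ).hom.app (F k) ((EtCoh.stalk ξ).map (ψ k).inv q))
  let β := (EtCoh.pullPushAdj (c.π.app (op k))).homEquiv _ _ ((ψ k).hom ≫ colimit.ι G k)
  let v := (EtSh.fibBC (c.π.app (op k)) ξ).inv.app U τ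
  have he : EtSh.germ ξ (colimit G) t₀ t = EtSh.germ ξ (colimit G) v (β.hom.app (op U) r) := by
    refine hq.symm.trans (Eq.trans ?_ (germ_transpose (c.π.app (op k)) ξ _ τ r).symm)
    refine Eq.trans ?_ (congrArg (fun z => (EtCoh.stalk ξ).map ((ψ k).hom ≫ colimit.ι G k)
      ((EtSh.stalkPullIso (c.π.app (op k)) ξ).inv.app (F k) z)) hr).symm
    refine Eq.trans ?_ (congrArg ((EtCoh.stalk ξ).map ((ψ k).hom ≫ colimit.ι G k))
      (congrArg (fun z => z ((EtCoh.stalk ξ).map (ψ k).inv q))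
        ((EtSh.stalkPullIso (c.π.app (op k)) ξ).hom_inv_id_app (F k)))).symm
    refine Eq.trans ?_ (congrArg (fun z => z ((EtCoh.stalk ξ).map (ψ k).inv q))
      ((EtCoh.stalk ξ).map_comp (ψ k).hom (colimit.ι G k))).symm
    exact congrArg ((EtCoh.stalk ξ).map (colimit.ι G k)) ((congrArg (fun z => z q)
      (((EtCoh.stalk ξ).map_comp (ψ k).inv (ψ k).hom).symm.trans
        ((congrArg (EtCoh.stalk ξ).map (ψ k).inv_hom_id).trans ((EtCoh.stalk ξ).map_id _)))).symm)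
  obtain ⟨⟨Z, z⟩, ⟨a, ha⟩, ⟨b, hb⟩, -⟩ :=
    IsCofilteredOrEmpty.cone_objs (Functor.elementsMk (Scheme.pointSmallEtale ξ).fiber W t₀)
      (Functor.elementsMk (Scheme.pointSmallEtale ξ).fiber _ v)
  have e : EtSh.germ ξ (colimit G) z ((colimit G).obj.map a.op t) =
      EtSh.germ ξ (colimit G) z ((colimit G).obj.map b.op (β.hom.app (op U) r)) :=
    ((EtSh.germ_map _ a z t).trans (congrArg (fun y => EtSh.germ ξ (colimit G) y t) ha)).trans
      (he.trans ((EtSh.germ_map _ b z _).trans (congrArg (fun y => EtSh.germ ξ (colimit G) y _) hb)).symm)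
  obtain ⟨V, g, w, hw, hg⟩ := (EtSh.germ_eq_iff _ z _ _).1 e
  refine ⟨op k, U, r, V, g ≫ a, w, g ≫ b, ?_, ?_⟩
  · refine (congrArg a.left.base hw).trans ?_
    exact (EtSh.map_fpt a z).symm.trans (congrArg EtSh.fpt ha)
  · exact (map_map g a t).symm.trans (hg.trans (map_map g b _))

theorem ptInj_pullSystem : (pullSystem c F φ hφ G ψ hψ).PtInj := by
  haveI : IsFiltered ι := ⟨⟩
  intro i A r x hr
  obtain ⟨i⟩ := i
  let u := c.π.app (op i)
  let U := (EtCoh.bc u).obj A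
  obtain ⟨Ω, _, _, ξ, hξ⟩ := EtSh.exists_geometric_point (U.hom.base x)
  obtain ⟨t₀, rfl⟩ := EtSh.exists_fib (ξ := ξ) x (Set.eq_of_mem_singleton (hξ.le ⟨default, rfl⟩)).symm
  let τ := (EtSh.fibBC u ξ).hom.app A t₀
  have hτ : (EtSh.fibBC u ξ).inv.app A τ = t₀ := congrArg (fun z => z t₀) ((EtSh.fibBC u ξ).hom_inv_id_app A)
  let q := (EtCoh.stalk ξ).map (ψ i).hom ((EtSh.stalkPullIso u ξ).inv.app (F i) (EtSh.germ (ξ ≫ u) (F i) τ r))
  have hq : (EtCoh.stalk ξ).map (colimit.ι G i) q = 0 := by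
    refine (stalk_map_map ξ (ψ i).hom (colimit.ι G i) _).trans ?_
    refine (germ_transpose u ξ _ τ r).symm.trans ?_
    exact (congrArg (EtSh.germ ξ (colimit G) _) hr).trans (map_zero _)
  obtain ⟨k, a, ha⟩ := EtSh.exists_germ_eq_zero (colimit.isColimit G) ξ q hq
  let hik : i ≤ k := leOfHom a
  let aa : op k ⟶ op i := (homOfLE hik).op
  let v := c.π.app (op k)
  let βk := (EtCoh.pullPushAdj u).homEquiv (F i) (G.obj k) ((ψ i).hom ≫ G.map a)
  have h1 : EtSh.germ ξ (G.obj k) t₀ (βk.hom.app (op A) r) = 0 := by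
    refine (congrArg (fun y => EtSh.germ ξ (G.obj k) y (βk.hom.app (op A) r)) hτ).symm.trans ?_
    refine (germ_transpose u ξ _ τ r).trans ?_
    exact (stalk_map_map ξ (ψ i).hom (G.map a) _).symm.trans ha
  have hcomp : βk ≫ (θIso (c.w aa)).hom.app (G.obj k) =
      (EtCoh.pullPushAdj (Xs.map aa)).homEquiv (F i) (F k) (φ hik) ≫
        (EtCoh.push (Xs.map aa)).map ((EtCoh.pullPushAdj v).homEquiv (F k) (G.obj k) (ψ k).hom) := by
    refine Eq.trans ?_ (transpose_comp (c.w aa) (φ hik) (ψ k).hom)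
    exact congrArg (fun z => (EtCoh.pullPushAdj u).homEquiv (F i) (G.obj k) z ≫ (θIso (c.w aa)).hom.app (G.obj k))
      (hψ hik)
  let m := bcHom (c.w aa) A
  let t₁ := (Scheme.pointSmallEtale ξ).fiber.map (inv m) t₀
  have ht₁ : (Scheme.pointSmallEtale ξ).fiber.map m t₁ = t₀ :=
    (congrArg (fun z => z t₀) ((Scheme.pointSmallEtale ξ).fiber.map_comp (inv m) m)).symm.trans
      ((congrArg (fun z => (Scheme.pointSmallEtale ξ).fiber.map z t₀) (IsIso.inv_hom_id m)).trans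
        (congrArg (fun z => z t₀) ((Scheme.pointSmallEtale ξ).fiber.map_id U)))
  let B := (EtCoh.bc (Xs.map aa)).obj A
  let αr : EtCoh.sect (F k) B := ((EtCoh.pullPushAdj (Xs.map aa)).homEquiv (F i) (F k) (φ hik)).hom.app (op A) r
  let γk := (EtCoh.pullPushAdj v).homEquiv (F k) (G.obj k) (ψ k).hom
  have h2 : EtSh.germ ξ (G.obj k) t₁ (γk.hom.app (op B) αr) = 0 := by
    refine (congrArg (EtSh.germ ξ (G.obj k) t₁) ((congrArg (fun z => z.hom.app (op A) r) hcomp).symm.trans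
      (θIso_app (c.w aa) (G.obj k) A _))).trans ?_
    refine (EtSh.germ_map (G.obj k) m t₁ _).trans ?_
    exact (congrArg (fun y => EtSh.germ ξ (G.obj k) y (βk.hom.app (op A) r)) ht₁).trans h1
  let τ₁ := (EtSh.fibBC v ξ).hom.app B t₁
  have hτ₁ : (EtSh.fibBC v ξ).inv.app B τ₁ = t₁ := congrArg (fun z => z t₁) ((EtSh.fibBC v ξ).hom_inv_id_app B)
  have h3 : EtSh.germ (ξ ≫ v) (F k) τ₁ αr = 0 := by
    have e1 : (EtCoh.stalk ξ).map (ψ k).hom ((EtSh.stalkPullIso v ξ).inv.app (F k)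
        (EtSh.germ (ξ ≫ v) (F k) τ₁ αr)) = 0 :=
      (germ_transpose v ξ _ τ₁ αr).symm.trans
        ((congrArg (fun y => EtSh.germ ξ (G.obj k) y (γk.hom.app (op B) αr)) hτ₁).trans h2)
    have e2 := congrArg ((EtCoh.stalk ξ).map (ψ k).inv) e1
    rw [map_zero] at e2
    have e3 := (congrArg (fun z => z ((EtSh.stalkPullIso v ξ).inv.app (F k) (EtSh.germ (ξ ≫ v) (F k) τ₁ αr)))
      (((EtCoh.stalk ξ).map_comp (ψ k).hom (ψ k).inv).symm.trans
        ((congrArg (EtCoh.stalk ξ).map (ψ k).hom_inv_id).trans ((EtCoh.stalk ξ).map_id _)))).symm.trans e2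
    have e4 := congrArg ((EtSh.stalkPullIso v ξ).hom.app (F k)) e3
    rw [map_zero] at e4
    exact (congrArg (fun z => z (EtSh.germ (ξ ≫ v) (F k) τ₁ αr))
      ((EtSh.stalkPullIso v ξ).inv_hom_id_app (F k))).symm.trans e4
  obtain ⟨V, g, w, hw, hg⟩ := (EtSh.germ_eq_zero_iff _ τ₁ _).1 h3
  refine ⟨op k, aa, V, g, w, hw.trans ?_, hg⟩
  have e5 : τ₁.left = t₀.left ≫ bcStep (c.w aa) A := by
    refine (Category.assoc _ _ _).trans (congrArg (t₀.left ≫ ·) ?_)
    refine (congrArg ((inv m).left ≫ ·) (bcHom_bcStep (c.w aa) A).symm).trans ?_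
    refine (Category.assoc _ _ _).symm.trans ?_
    exact (congrArg (fun z : U ⟶ U => z.left ≫ bcStep (c.w aa) A) (IsIso.inv_hom_id m)).trans (Category.id_comp _)
  exact congrArg (fun z : Spec (CommRingCat.of Ω) ⟶ B.left => z.base default) e5

end System

end Groth.Agent.EtLimLib
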