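import Groth.Agent.EtLimLib.PullOneBasic
import Groth.Agent.S3889

noncomputable section

set_option linter.style.haveILetI false
set_option backward.isDefEq.respectTransparency.types false
set_option autoImplicit false
set_option maxHeartbeats 1000000

universe u

open CategoryTheory CategoryTheory.Limits AlgebraicGeometry Opposite

namespace Groth.Agent.EtLimLib.PullOne

section

variable {ι : Type u} [Preorder ι] {Xs : ιᵒᵖ ⥤ Scheme.{u}} {Z : Scheme.{u}} (u : ∀ j : ι, Xs.obj (op j) ⟶ Z)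
  (A : EtCoh.Ab Z) (c : Cone Xs) (f₀ : c.pt ⟶ Z)

theorem main [Nonempty ι] [IsDirected ι (· ≤ ·)] (haff : ∀ ⦃a b : ιᵒᵖ⦄ (h : a ⟶ b), IsAffineHom (Xs.map h))
    (hqc : ∀ a, CompactSpace ↥(Xs.obj a)) (hqs : ∀ a, QuasiSeparatedSpace ↥(Xs.obj a)) (hc : IsLimit c)
    [∀ a, PreservesFiniteLimits (EtCoh.pull (c.π.app a))]
    [∀ ⦃a b : ιᵒᵖ⦄ (h : a ⟶ b), PreservesFiniteLimits (EtCoh.pull (Xs.map h))] (p : ℕ)
    (hu : ∀ ⦃i j : ι⦄ (h : i ≤ j), Xs.map (homOfLE h).op ≫ u i = u j)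
    (hf : ∀ j : ι, c.π.app (op j) ≫ u j = f₀) :
    (∀ ξ : EtCoh.H c.pt ((EtCoh.pull f₀).obj A) p, ∃ (j : ι) (x : EtCoh.H (Xs.obj (op j)) ((EtCoh.pull (u j)).obj A) p),
      EtCore.HpullVia (c.π.app (op j)) (u j) f₀ (hf j) A p x = ξ) ∧
    (∀ (j : ι) (x : EtCoh.H (Xs.obj (op j)) ((EtCoh.pull (u j)).obj A) p),
      EtCore.HpullVia (c.π.app (op j)) (u j) f₀ (hf j) A p x = 0 →
        ∃ (k : ι) (hk : j ≤ k), EtCore.Hpull (Xs.map (homOfLE hk).op) _ p x = 0) := by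
  obtain ⟨h1, h2⟩ := S3889.result Xs haff hqc hqs c hc (fun j => (EtCoh.pull (u j)).obj A)
    (fun i j h => (EtLimLib.pullIso (hu h)).inv.app A) (hφ u hu A) ((Functor.const ι).obj ((EtCoh.pull f₀).obj A))
    (fun j => ((EtLimLib.pullIso (hf j)).app A).symm) (hψ u hu A c f₀ hf) p
  obtain ⟨T, S, hTS, hS⟩ := exists_desc_const (J := ι) (X := c.pt) ((EtCoh.pull f₀).obj A) p
  have e := fun (j : ι) (x : EtCoh.H (Xs.obj (op j)) ((EtCoh.pull (u j)).obj A) p) =>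
    (hpullThen_pullIso (c.π.app (op j)) (u j) f₀ (hf j) A
      (colimit.ι ((Functor.const ι).obj ((EtCoh.pull f₀).obj A)) j) p x).trans (hS j _)
  refine ⟨fun ξ => ?_, fun j x h => ?_⟩
  · obtain ⟨j, x, hx⟩ := h1 (S ξ)
    exact ⟨j, x, (hTS _).symm.trans ((congrArg T ((e j x).symm.trans hx)).trans (hTS ξ))⟩
  · have h0 : S 0 = 0 := (hS j 0).symm.trans (map_zero _)
    obtain ⟨k, hk, hk0⟩ := h2 j x ((e j x).trans ((congrArg S h).trans h0))
    exact ⟨k, hk, hpull_eq_zero (Xs.map (homOfLE hk).op) ((EtLimLib.pullIso (hu hk)).inv.app A) p x hk0⟩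

end

end Groth.Agent.EtLimLib.PullOne
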