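import Groth.Agent.EtLimLib.PullAssoc

noncomputable section

set_option linter.style.haveILetI false
set_option backward.isDefEq.respectTransparency.types false
set_option autoImplicit false
set_option maxHeartbeats 1000000

universe u

open CategoryTheory CategoryTheory.Limits AlgebraicGeometry Opposite

namespace Groth.Agent.EtLimLib.PullOne

theorem hpullThen_pullIso {X Y Z : Scheme.{u}} (f : X ⟶ Y) [PreservesFiniteLimits (EtCoh.pull f)] (t : Y ⟶ Z)
    (f₀ : X ⟶ Z) (w : f ≫ t = f₀) (A : EtCoh.Ab Z) {M : EtCoh.Ab X} (m : (EtCoh.pull f₀).obj A ⟶ M) (n : ℕ)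
    (x : EtCoh.H Y ((EtCoh.pull t).obj A) n) :
    EtLim.HpullThen f ((EtCoh.pull t).obj A) (((EtLimLib.pullIso w).app A).symm.hom ≫ m) n x =
      Sheaf.H.map m n (EtCore.HpullVia f t f₀ w A n x) :=
  ((EtLimLib.hpullThen_apply f _ _ n x).trans (Sheaf.H.map_comp_apply _ m _)).trans
    (congrArg (Sheaf.H.map m n) ((congrArg (fun z => Sheaf.H.map z n (EtCore.Hpull f ((EtCoh.pull t).obj A) n x))
      (EtLimLib.pullComp_symm_eq w A).symm).trans (EtLimLib.hpullVia_apply w A n x).symm))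

theorem hpull_eq_zero {X Y : Scheme.{u}} (f : X ⟶ Y) [PreservesFiniteLimits (EtCoh.pull f)] {A : EtCoh.Ab Y}
    {M : EtCoh.Ab X} (e : (EtCoh.pull f).obj A ⟶ M) [IsIso e] (n : ℕ) (x : EtCoh.H Y A n)
    (h : EtLim.HpullThen f A e n x = 0) : EtCore.Hpull f A n x = 0 :=
  (Sheaf.H.map_id_apply (EtCore.Hpull f A n x)).symm.trans
    ((congrArg (fun z => Sheaf.H.map z n (EtCore.Hpull f A n x)) (IsIso.hom_inv_id e).symm).trans
      ((Sheaf.H.map_comp_apply e (inv e) _).trans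
        ((congrArg (Sheaf.H.map (inv e) n) ((EtLimLib.hpullThen_apply f A e n x).symm.trans h)).trans (map_zero _))))

theorem exists_desc_const {J : Type u} [Preorder J] [Nonempty J] [IsDirected J (· ≤ ·)] {X : Scheme.{u}}
    (P : EtCoh.Ab X) (n : ℕ) :
    ∃ (T : EtCoh.H X (colimit ((Functor.const J).obj P)) n → EtCoh.H X P n)
      (S : EtCoh.H X P n → EtCoh.H X (colimit ((Functor.const J).obj P)) n),
      (∀ y, T (S y) = y) ∧
      ∀ (j : J) (y : EtCoh.H X P n), Sheaf.H.map (colimit.ι ((Functor.const J).obj P) j) n y = S y := by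
  haveI : IsFiltered J := ⟨⟩
  let G := (Functor.const J).obj P
  let d : colimit G ⟶ P := colimit.desc G ⟨P, { app := fun _ => 𝟙 P }⟩
  have hd : ∀ j, colimit.ι G j ≫ d = 𝟙 P := fun j => colimit.ι_desc _ _
  have hι : ∀ j k, colimit.ι G j = colimit.ι G k := fun j k => by
    obtain ⟨l, hjl, hkl⟩ := directed_of (· ≤ ·) j k
    exact ((colimit.w G (homOfLE hjl)).symm.trans (Category.id_comp _)).trans
      ((colimit.w G (homOfLE hkl)).symm.trans (Category.id_comp _)).symm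
  let j₀ : J := Classical.arbitrary J
  refine ⟨fun z => Sheaf.H.map d n z, fun y => Sheaf.H.map (colimit.ι G j₀) n y, fun y => ?_,
    fun j y => congrArg (fun z => Sheaf.H.map z n y) (hι j j₀)⟩
  exact (Sheaf.H.map_comp_apply (colimit.ι G j₀) d y).symm.trans
    ((congrArg (fun z => Sheaf.H.map z n y) (hd j₀)).trans (Sheaf.H.map_id_apply y))

section

variable {ι : Type u} [Preorder ι] {Xs : ιᵒᵖ ⥤ Scheme.{u}} {Z : Scheme.{u}} (u : ∀ j : ι, Xs.obj (op j) ⟶ Z)

theorem hw {i j k : ι} (hij : i ≤ j) (hjk : j ≤ k) :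
    Xs.map (homOfLE hjk).op ≫ Xs.map (homOfLE hij).op = Xs.map (homOfLE (hij.trans hjk)).op :=
  (Xs.map_comp _ _).symm

theorem pullTrans_eq {i j k : ι} (hij : i ≤ j) (hjk : j ≤ k) (B : EtCoh.Ab (Xs.obj (op i))) :
    (EtLim.pullTrans Xs hij hjk).hom.app B = (EtLimLib.pullIso (hw (Xs := Xs) hij hjk)).hom.app B := rfl

theorem pullTransCone_eq (c : Cone Xs) {i j : ι} (hij : i ≤ j) (B : EtCoh.Ab (Xs.obj (op i))) :
    (EtLim.pullTransCone Xs c hij).hom.app B = (EtLimLib.pullIso (c.w (homOfLE hij).op)).hom.app B := rfl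

variable (hu : ∀ ⦃i j : ι⦄ (h : i ≤ j), Xs.map (homOfLE h).op ≫ u i = u j) (A : EtCoh.Ab Z)

theorem hφ ⦃i j k : ι⦄ (hij : i ≤ j) (hjk : j ≤ k) :
    (EtLimLib.pullIso (hu (hij.trans hjk))).inv.app A =
      (EtLim.pullTrans Xs hij hjk).hom.app ((EtCoh.pull (u i)).obj A) ≫
        (EtCoh.pull (Xs.map (homOfLE hjk).op)).map ((EtLimLib.pullIso (hu hij)).inv.app A) ≫
          (EtLimLib.pullIso (hu hjk)).inv.app A :=
  (EtLimLib.pullIso_assoc_inv (hu (hij.trans hjk)) (hw hij hjk) (hu hjk) (hu hij) A).trans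
    (congrArg (· ≫ _) (pullTrans_eq hij hjk _).symm)

variable (c : Cone Xs) (f₀ : c.pt ⟶ Z) (hf : ∀ j : ι, c.π.app (op j) ≫ u j = f₀)

theorem hψ ⦃i j : ι⦄ (hij : i ≤ j) :
    ((EtLimLib.pullIso (hf i)).app A).symm.hom ≫
        ((Functor.const ι).obj ((EtCoh.pull f₀).obj A)).map (homOfLE hij) =
      (EtLim.pullTransCone Xs c hij).hom.app ((EtCoh.pull (u i)).obj A) ≫
        (EtCoh.pull (c.π.app (op j))).map ((EtLimLib.pullIso (hu hij)).inv.app A) ≫
          ((EtLimLib.pullIso (hf j)).app A).symm.hom :=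
  (Category.comp_id _).trans ((EtLimLib.pullIso_assoc_inv (hf i) (c.w (homOfLE hij).op) (hf j) (hu hij) A).trans
    (congrArg (· ≫ _) (pullTransCone_eq c hij _).symm))

end

end Groth.Agent.EtLimLib.PullOne
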