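import Groth.Agent.EtLimLib.Main

/-!
# Cohomology of a limit of schemes with coefficients pushed to the stages
-/

noncomputable section

set_option autoImplicit false
set_option linter.style.haveILetI false
set_option linter.unusedSectionVars false
set_option backward.isDefEq.respectTransparency.types false

universe u

open CategoryTheory CategoryTheory.Limits AlgebraicGeometry Opposite CategoryTheory.Abelian

namespace Groth.Agent.EtLimLib

variable {I : Type u} [SmallCategory I] {D : I ⥤ Scheme.{u}} (c : Cone D)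
  [∀ i, PreservesFiniteLimits (EtCoh.pull (c.π.app i))]
  [∀ {i j : I} (a : i ⟶ j), PreservesFiniteLimits (EtCoh.pull (D.map a))]
  [IsCofiltered I] (hc : IsLimit c) [∀ (i j : I) (a : i ⟶ j), IsAffineHom (D.map a)]
  [∀ i, CompactSpace (D.obj i)] [∀ i, QuasiSeparatedSpace (D.obj i)]

include hc in
theorem rep_succ {S : ShortComplex (EtCoh.Ab c.pt)} (hS : S.ShortExact) [Injective S.X₂] [Epi S.g] (n : ℕ)
    (ih₃ : ∀ η : EtCoh.H c.pt S.X₃ n, ∃ (i : I) (x : EtCoh.H (D.obj i) ((EtCoh.push (c.π.app i)).obj S.X₃) n),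
      EtLim.HofPush (c.π.app i) S.X₃ n x = η) (ξ : EtCoh.H c.pt S.X₁ (n + 1)) :
    ∃ (i : I) (x : EtCoh.H (D.obj i) ((EtCoh.push (c.π.app i)).obj S.X₁) (n + 1)),
      EtLim.HofPush (c.π.app i) S.X₁ (n + 1) x = ξ := by
  obtain ⟨η, rfl⟩ := Ext.covariant_sequence_exact₁ _ hS ξ (Ext.eq_zero_of_injective _) rfl
  obtain ⟨i, ηi, rfl⟩ := ih₃ η
  obtain ⟨j, a, ha⟩ := exists_H_kill c S.g hc i n (Sheaf.H.map (cokernel.π (pushAt c S.g i)) n ηi)
  obtain ⟨κ, hκ⟩ := Ext.covariant_sequence_exact₂ _ (cokSeq_shortExact c hS j) (Tr c a S.X₃ n ηi)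
    (π_Tr c n a ηi ha)
  refine ⟨j, κ.comp (pushSeq_shortExact (c.π.app j) hS).extClass rfl,
    (hofPush_delta (c.π.app j) hS n κ).trans ?_⟩
  refine congrArg (fun e => Ext.comp e hS.extClass rfl) ?_
  exact (congrArg (EtLim.HofPush (c.π.app j) S.X₃ n) hκ).trans (hofPush_Tr c a S.X₃ n ηi)

/-- a class killed on the limit becomes the boundary of a class killed in the middle term -/
theorem zero_step {S : ShortComplex (EtCoh.Ab c.pt)} (hS : S.ShortExact) (n : ℕ)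
    (ih₂ : ∀ η : EtCoh.H c.pt S.X₂ n, ∃ (i : I) (x : EtCoh.H (D.obj i) ((EtCoh.push (c.π.app i)).obj S.X₂) n),
      EtLim.HofPush (c.π.app i) S.X₂ n x = η)
    (ih₃ : ∀ (i : I) (x : EtCoh.H (D.obj i) ((EtCoh.push (c.π.app i)).obj S.X₃) n),
      EtLim.HofPush (c.π.app i) S.X₃ n x = 0 → ∃ (j : I) (a : j ⟶ i), Tr c a S.X₃ n x = 0)
    (i : I) (κ : EtCoh.H (D.obj i) (pushSeq (c.π.app i) S).X₃ n)
    (hx : EtLim.HofPush (c.π.app i) S.X₁ (n + 1) (κ.comp (pushSeq_shortExact (c.π.app i) hS).extClass rfl) = 0) :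
    ∃ (l : I) (a : l ⟶ i) (d : EtCoh.H (D.obj l) (pushSeq (c.π.app l) S).X₃ n),
      Sheaf.H.map (pushSeqHom (c.π.app l) S).τ₃ n d = 0 ∧
      Tr c a S.X₁ (n + 1) (κ.comp (pushSeq_shortExact (c.π.app i) hS).extClass rfl) =
        d.comp (pushSeq_shortExact (c.π.app l) hS).extClass rfl := by
  obtain ⟨θ, hθ⟩ := Ext.covariant_sequence_exact₃ _ hS _ rfl ((hofPush_delta (c.π.app i) hS n κ).symm.trans hx)
  obtain ⟨k, θk, rfl⟩ := ih₂ θ
  let m := IsCofiltered.min i k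
  let a : m ⟶ i := IsCofiltered.minToLeft i k
  let b : m ⟶ k := IsCofiltered.minToRight i k
  let θm := Tr c b S.X₂ n θk
  let pκ := Sheaf.H.map (pushSeqHom (c.π.app i) S).τ₃ n κ
  obtain ⟨l, r, hr⟩ := ih₃ m (Tr c a S.X₃ n pκ - Sheaf.H.map (pushAt c S.g m) n θm) (by
      rw [map_sub, sub_eq_zero]
      refine (hofPush_Tr c a S.X₃ n pκ).trans (Eq.trans ?_ (hofPush_natural (c.π.app m) S.g n θm).symm)
      exact hθ.symm.trans (congrArg (fun e => Sheaf.H.map S.g n e) (hofPush_Tr c b S.X₂ n θk)).symm)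
  have hr' : Tr c r S.X₃ n (Tr c a S.X₃ n pκ) = Tr c r S.X₃ n (Sheaf.H.map (pushAt c S.g m) n θm) :=
    sub_eq_zero.1 ((map_sub _ _ _).symm.trans hr)
  let κl := EtLim.HofPush (D.map (r ≫ a)) (pushSeq (c.π.app l) S).X₃ n
    (Sheaf.H.map (transHom (c.w (r ≫ a)) S).τ₃ n κ)
  let θl : EtCoh.H (D.obj l) (pushSeq (c.π.app l) S).X₂ n := Tr c r S.X₂ n θm
  let d := κl - Sheaf.H.map (pushSeq (c.π.app l) S).g n θl
  have hd : Sheaf.H.map (pushSeqHom (c.π.app l) S).τ₃ n d = 0 := by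
    refine (map_sub _ _ _).trans (sub_eq_zero.2 ?_)
    refine ((natP c S n (r ≫ a) κ).symm.trans ((Tr_comp c a r S.X₃ n pκ).symm.trans hr')).trans ?_
    refine (Tr_natural c r S.g n θm).trans ?_
    refine Eq.trans ?_ (Sheaf.H.map_comp_apply _ _ θl)
    exact (congrArg (fun v => Sheaf.H.map v n θl)
      (cokernel.π_desc ((EtCoh.push (c.π.app l)).map S.f) _ (map_pushSeq_zero (c.π.app l) S))).symm
  have hA := pushSeq_shortExact (c.π.app l) hS
  have hxl : Tr c (r ≫ a) S.X₁ (n + 1) (κ.comp (pushSeq_shortExact (c.π.app i) hS).extClass rfl) =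
      d.comp hA.extClass rfl := by
    refine (hpushTrans_delta (c.w (r ≫ a)) hS n κ _).trans ?_
    exact (congrArg (fun z => Ext.comp z hA.extClass rfl) (sub_add_cancel κl _).symm).trans
      (map_πA_delta c l hA n d θl)
  exact ⟨l, r ≫ a, d, hd, hxl⟩

end Groth.Agent.EtLimLib
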