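import Groth.Agent.EtLimLib.SystemColim

/-!
# Cohomology of a limit of schemes with coefficients in a system of sheaves
-/

noncomputable section

set_option autoImplicit false
set_option linter.style.haveILetI false
set_option linter.unusedSectionVars false
set_option backward.isDefEq.respectTransparency.types false

universe u

open CategoryTheory CategoryTheory.Limits AlgebraicGeometry Opposite CategoryTheory.Abelian

namespace Groth.Agent.EtLimLib

variable {I : Type u} [SmallCategory I] {D : I ⥤ Scheme.{u}} {c : Cone D} {G : EtCoh.Ab c.pt} (S : SheafSystem c G)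

namespace SheafSystem

variable [IsCofiltered I] (hs : S.LocSurj) (hi : S.LocInj) [∀ (i j : I) (a : i ⟶ j), IsAffineHom (D.map a)]

variable [∀ i, PreservesFiniteLimits (EtCoh.pull (c.π.app i))]
  [∀ {i j : I} (a : i ⟶ j), PreservesFiniteLimits (EtCoh.pull (D.map a))]

/-- transition of classes -/
def P {i j : I} (a : j ⟶ i) (n : ℕ) : EtCoh.H (D.obj i) (S.obj i) n →+ EtCoh.H (D.obj j) (S.obj j) n :=
  (EtLim.HofPush (D.map a) (S.obj j) n).comp (Sheaf.H.map (S.α a) n)

/-- map to classes on the limit -/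
def Φ (i : I) (n : ℕ) : EtCoh.H (D.obj i) (S.obj i) n →+ EtCoh.H c.pt G n :=
  (EtLim.HofPush (c.π.app i) G n).comp (Sheaf.H.map (S.β i) n)

theorem P_comp {i j k : I} (a : j ⟶ i) (b : k ⟶ j) (n : ℕ) (x : EtCoh.H (D.obj i) (S.obj i) n) :
    S.P b n (S.P a n x) = S.P (b ≫ a) n x := by
  refine Eq.trans ?_ (hofPush_comp (D.map_comp b a).symm n (S.obj k) _)
  refine congrArg (EtLim.HofPush (D.map b) (S.obj k) n) ?_
  refine (hofPush_natural (D.map a) (S.α b) n _).symm.trans ?_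
  refine congrArg (EtLim.HofPush (D.map a) ((EtCoh.push (D.map b)).obj (S.obj k)) n) ?_
  refine (Sheaf.H.map_comp_apply _ _ x).symm.trans ?_
  exact (congrArg (fun m => Sheaf.H.map m n x) (S.α_comp a b).symm).trans (Sheaf.H.map_comp_apply _ _ x)

theorem Tr_β {i j : I} (a : j ⟶ i) (n : ℕ) (x : EtCoh.H (D.obj i) (S.obj i) n) :
    Tr c a G n (Sheaf.H.map (S.β i) n x) = Sheaf.H.map (S.β j) n (S.P a n x) := by
  refine Eq.trans ?_ (hofPush_natural (D.map a) (S.β j) n _)
  refine congrArg (EtLim.HofPush (D.map a) ((EtCoh.push (c.π.app j)).obj G) n) ?_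
  refine (Sheaf.H.map_comp_apply _ _ x).symm.trans ?_
  exact (congrArg (fun m => Sheaf.H.map m n x) (S.α_β a)).trans (Sheaf.H.map_comp_apply _ _ x)

theorem Φ_P {i j : I} (a : j ⟶ i) (n : ℕ) (x : EtCoh.H (D.obj i) (S.obj i) n) :
    S.Φ j n (S.P a n x) = S.Φ i n x :=
  (congrArg (EtLim.HofPush (c.π.app j) G n) (S.Tr_β a n x)).symm.trans
    (hofPush_Tr c a G n (Sheaf.H.map (S.β i) n x))

variable (hc : IsLimit c) [∀ i, CompactSpace (D.obj i)] [∀ i, QuasiSeparatedSpace (D.obj i)]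

include hc hs hi in
theorem rep (n : ℕ) (ξ : EtCoh.H c.pt G n) :
    ∃ (i : I) (x : EtCoh.H (D.obj i) (S.obj i) n), S.Φ i n x = ξ := by
  obtain ⟨j, x, rfl⟩ := (exists_rep_and_zero c hc n G).1 ξ
  obtain ⟨k, b, y, rfl⟩ := (S.exists_H_stage hs hi j n).1 x
  refine ⟨k, EtLim.HofPush (D.map b) (S.obj k) n y, ?_⟩
  refine Eq.trans ?_ (hofPush_Tr c b G n (Sheaf.H.map (S.γ b) n y))
  refine congrArg (EtLim.HofPush (c.π.app k) G n) ?_
  refine (hofPush_natural (D.map b) (S.β k) n y).symm.trans ?_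
  refine congrArg (EtLim.HofPush (D.map b) ((EtCoh.push (c.π.app k)).obj G) n) ?_
  refine Eq.trans ?_ (Sheaf.H.map_comp_apply (S.γ b) ((θIso (c.w b)).hom.app G) y)
  refine congrArg (fun m => Sheaf.H.map m n y) ?_
  exact ((Category.assoc _ _ _).trans ((congrArg (_ ≫ ·) ((θIso (c.w b)).inv_hom_id_app G)).trans
    (Category.comp_id _))).symm

include hc hs hi in
theorem zero (n : ℕ) (i : I) (x : EtCoh.H (D.obj i) (S.obj i) n) (hx : S.Φ i n x = 0) :
    ∃ (j : I) (a : j ⟶ i), S.P a n x = 0 := by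
  obtain ⟨j, a, ha⟩ := (exists_rep_and_zero c hc n G).2 i (Sheaf.H.map (S.β i) n x) hx
  have h0 : Sheaf.H.map (S.β j) n (S.P a n x) = 0 := (S.Tr_β a n x).symm.trans ha
  let jo : Over j := Over.mk (𝟙 j)
  have h1 : Sheaf.H.map (S.γ jo.hom) n (Sheaf.H.map (S.α jo.hom) n (S.P a n x)) = 0 := by
    rw [← Sheaf.H.map_comp_apply, S.α_γ]
    exact h0
  obtain ⟨l, t, ht⟩ := (S.exists_H_stage hs hi j n).2 jo _ h1
  rw [← Sheaf.H.map_comp_apply, S.α_L'] at ht
  refine ⟨l.left, l.hom ≫ a, (S.P_comp a l.hom n x).symm.trans ?_⟩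
  exact (congrArg (EtLim.HofPush (D.map l.hom) (S.obj l.left) n) ht).trans (map_zero _)

end SheafSystem

end Groth.Agent.EtLimLib
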