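import Groth.Agent.EtLimLib.Induction
import Groth.Agent.EtSh.SectionsColimQC

/-!
# Cohomology of a limit of schemes with coefficients in a system of sheaves
-/

noncomputable section

set_option autoImplicit false
set_option linter.style.haveILetI false
set_option linter.unusedSectionVars false
set_option backward.isDefEq.respectTransparency.types false

universe u

open CategoryTheory CategoryTheory.Limits AlgebraicGeometry Opposite CategoryTheory.Abelian

namespace Groth.Agent.EtLimLib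

variable {I : Type u} [SmallCategory I] {D : I ⥤ Scheme.{u}} (c : Cone D)

/-- a system of sheaves on the stages with a map to a sheaf on the limit -/
structure SheafSystem (G : EtCoh.Ab c.pt) : Type (u + 2) where
  obj : ∀ i : I, EtCoh.Ab (D.obj i)
  α : ∀ {i j : I} (a : j ⟶ i), obj i ⟶ (EtCoh.push (D.map a)).obj (obj j)
  β : ∀ i : I, obj i ⟶ (EtCoh.push (c.π.app i)).obj G
  α_comp : ∀ {i j k : I} (a : j ⟶ i) (b : k ⟶ j),
    α (b ≫ a) ≫ (θIso (D.map_comp b a).symm).hom.app (obj k) = α a ≫ (EtCoh.push (D.map a)).map (α b)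
  α_β : ∀ {i j : I} (a : j ⟶ i), β i ≫ (θIso (c.w a)).hom.app G = α a ≫ (EtCoh.push (D.map a)).map (β j)

variable {c} {G : EtCoh.Ab c.pt} (S : SheafSystem c G)

namespace SheafSystem

/-- sections of the limit sheaf come from the system -/
def LocSurj : Prop :=
  ∀ (i : I) (A : (D.obj i).Etale), IsAffine A.left → ∀ t : EtCoh.sect G ((EtCoh.bc (c.π.app i)).obj A),
    ∃ (j : I) (a : j ⟶ i) (r : EtCoh.sect (S.obj j) ((EtCoh.bc (D.map a)).obj A)),
      (S.β j).hom.app (op ((EtCoh.bc (D.map a)).obj A)) r = G.obj.map (bcHom (c.w a) A).op t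

/-- sections dying on the limit die at a stage -/
def LocInj : Prop :=
  ∀ (i : I) (A : (D.obj i).Etale), IsAffine A.left → ∀ r : EtCoh.sect (S.obj i) A,
    (S.β i).hom.app (op A) r = 0 → ∃ (j : I) (a : j ⟶ i), (S.α a).hom.app (op A) r = 0

/-- transition between the direct images to a fixed stage -/
abbrev L {i k k' : I} (b : k ⟶ i) (t : k' ⟶ k) :
    (EtCoh.push (D.map b)).obj (S.obj k) ⟶ (EtCoh.push (D.map (t ≫ b))).obj (S.obj k') :=
  (EtCoh.push (D.map b)).map (S.α t) ≫ (θIso (D.map_comp t b).symm).inv.app (S.obj k')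

/-- comparison with the limit sheaf -/
abbrev γ {i k : I} (b : k ⟶ i) : (EtCoh.push (D.map b)).obj (S.obj k) ⟶ (EtCoh.push (c.π.app i)).obj G :=
  (EtCoh.push (D.map b)).map (S.β k) ≫ (θIso (c.w b)).inv.app G

theorem α_L {i k k' : I} (b : k ⟶ i) (t : k' ⟶ k) : S.α b ≫ S.L b t = S.α (t ≫ b) := by
  refine (Category.assoc _ _ _).symm.trans ((congrArg (· ≫ _) (S.α_comp b t).symm).trans
    ((Category.assoc _ _ _).trans ?_))
  exact (congrArg (S.α (t ≫ b) ≫ ·) ((θIso (D.map_comp t b).symm).hom_inv_id_app (S.obj k'))).trans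
    (Category.comp_id _)

theorem α_γ {i k : I} (b : k ⟶ i) : S.α b ≫ S.γ b = S.β i := by
  refine (Category.assoc _ _ _).symm.trans ((congrArg (· ≫ _) (S.α_β b).symm).trans
    ((Category.assoc _ _ _).trans ?_))
  exact (congrArg (S.β i ≫ ·) ((θIso (c.w b)).hom_inv_id_app G)).trans (Category.comp_id _)

theorem L_L {i k k' k'' : I} (b : k ⟶ i) (t : k' ⟶ k) (s : k'' ⟶ k') :
    S.L b t ≫ S.L (t ≫ b) s =
      S.L b (s ≫ t) ≫ eqToHom (congrArg (fun m => (EtCoh.push (D.map m)).obj (S.obj k'')) (Category.assoc s t b)) := by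
  have key : ∀ (b'' : k'' ⟶ i) (hb : s ≫ (t ≫ b) = b'') (w₁ : D.map (s ≫ t) ≫ D.map b = D.map b'')
      (w₃ : D.map s ≫ D.map (t ≫ b) = D.map b''),
      S.L b t ≫ (EtCoh.push (D.map (t ≫ b))).map (S.α s) ≫ (θIso w₃).inv.app (S.obj k'') =
        (EtCoh.push (D.map b)).map (S.α (s ≫ t)) ≫ (θIso w₁).inv.app (S.obj k'') := by
    intro b'' hb w₁ w₃
    have hA := θIso_assoc w₁ (D.map_comp s t).symm w₃ (D.map_comp t b).symm (S.obj k'')
    refine (Category.assoc _ _ _).trans ?_
    refine (congrArg ((EtCoh.push (D.map b)).map (S.α t) ≫ ·) ((Category.assoc _ _ _).symm.trans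
      ((congrArg (· ≫ (θIso w₃).inv.app (S.obj k'')) ((θIso (D.map_comp t b).symm).inv.naturality (S.α s)).symm).trans
        (Category.assoc _ _ _)))).trans ?_
    refine (Category.assoc _ _ _).symm.trans ((congrArg (· ≫ _) (((EtCoh.push (D.map b)).map_comp _ _).symm.trans
      ((congrArg (EtCoh.push (D.map b)).map (S.α_comp t s).symm).trans ((EtCoh.push (D.map b)).map_comp _ _)))).trans
        ((Category.assoc _ _ _).trans ?_))
    refine congrArg ((EtCoh.push (D.map b)).map (S.α (s ≫ t)) ≫ ·) ?_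
    rw [← cancel_epi ((θIso w₁).hom.app (S.obj k''))]
    refine ((Category.assoc _ _ _).symm.trans ((congrArg (· ≫ _) hA).trans ((Category.assoc _ _ _).trans ?_))).trans
      ((θIso w₁).hom_inv_id_app (S.obj k'')).symm
    exact (congrArg ((θIso w₃).hom.app (S.obj k'') ≫ ·) (Iso.hom_inv_id_app_assoc (θIso (D.map_comp t b).symm) _ _)).trans
      ((θIso w₃).hom_inv_id_app (S.obj k''))
  have h1 := key (s ≫ t ≫ b) rfl (by rw [← D.map_comp, Category.assoc]) (D.map_comp s (t ≫ b)).symm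
  refine h1.trans ?_
  have h2 : ∀ (b'' : k'' ⟶ i) (hb : (s ≫ t) ≫ b = b'') (w₁ : D.map (s ≫ t) ≫ D.map b = D.map b''),
      (EtCoh.push (D.map b)).map (S.α (s ≫ t)) ≫ (θIso w₁).inv.app (S.obj k'') =
        S.L b (s ≫ t) ≫ eqToHom (congrArg (fun m => (EtCoh.push (D.map m)).obj (S.obj k'')) hb) := by
    intro b'' hb w₁
    subst hb
    exact (Category.comp_id _).symm
  exact h2 _ (Category.assoc s t b) _

theorem L_γ {i k k' : I} (b : k ⟶ i) (t : k' ⟶ k) : S.L b t ≫ S.γ (t ≫ b) = S.γ b := by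
  refine (Category.assoc _ _ _).trans ?_
  refine (congrArg ((EtCoh.push (D.map b)).map (S.α t) ≫ ·) ((Category.assoc _ _ _).symm.trans
    ((congrArg (· ≫ (θIso (c.w (t ≫ b))).inv.app G) ((θIso (D.map_comp t b).symm).inv.naturality (S.β k')).symm).trans
      (Category.assoc _ _ _)))).trans ?_
  refine (Category.assoc _ _ _).symm.trans ((congrArg (· ≫ _) (((EtCoh.push (D.map b)).map_comp _ _).symm.trans
    ((congrArg (EtCoh.push (D.map b)).map (S.α_β t).symm).trans ((EtCoh.push (D.map b)).map_comp _ _)))).trans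
      ((Category.assoc _ _ _).trans ?_))
  refine congrArg ((EtCoh.push (D.map b)).map (S.β k) ≫ ·) ?_
  rw [← cancel_epi ((θIso (c.w b)).hom.app G)]
  refine ((Category.assoc _ _ _).symm.trans ((congrArg (· ≫ _)
    (θIso_assoc (c.w b) (c.w t) (c.w (t ≫ b)) (D.map_comp t b).symm G)).trans ((Category.assoc _ _ _).trans ?_))).trans
    ((θIso (c.w b)).hom_inv_id_app G).symm
  exact (congrArg ((θIso (c.w (t ≫ b))).hom.app G ≫ ·)
    (Iso.hom_inv_id_app_assoc (θIso (D.map_comp t b).symm) _ _)).trans ((θIso (c.w (t ≫ b))).hom_inv_id_app G)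

/-- transition with free target -/
abbrev L' {i : I} (j j' : Over i) (t : j' ⟶ j) :
    (EtCoh.push (D.map j.hom)).obj (S.obj j.left) ⟶ (EtCoh.push (D.map j'.hom)).obj (S.obj j'.left) :=
  S.L j.hom t.left ≫ eqToHom (congrArg (fun m => (EtCoh.push (D.map m)).obj (S.obj j'.left)) (Over.w t))

theorem L'_γ {i : I} (j j' : Over i) (t : j' ⟶ j) : S.L' j j' t ≫ S.γ j'.hom = S.γ j.hom := by
  have key : ∀ (b' : j'.left ⟶ i) (h : t.left ≫ j.hom = b'),
      (S.L j.hom t.left ≫ eqToHom (congrArg (fun m => (EtCoh.push (D.map m)).obj (S.obj j'.left)) h)) ≫ S.γ b' =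
        S.γ j.hom := by
    intro b' h
    subst h
    exact (congrArg (· ≫ S.γ (t.left ≫ j.hom)) (Category.comp_id _)).trans (S.L_γ j.hom t.left)
  exact key _ (Over.w t)

theorem L'_L' {i : I} (j j' j'' : Over i) (t : j' ⟶ j) (s : j'' ⟶ j') :
    S.L' j j' t ≫ S.L' j' j'' s = S.L' j j'' (s ≫ t) := by
  have key : ∀ (b' : j'.left ⟶ i) (h : t.left ≫ j.hom = b') (b'' : j''.left ⟶ i) (h' : s.left ≫ b' = b'')
      (h'' : (s.left ≫ t.left) ≫ j.hom = b''),
      (S.L j.hom t.left ≫ eqToHom (congrArg (fun m => (EtCoh.push (D.map m)).obj (S.obj j'.left)) h)) ≫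
        (S.L b' s.left ≫ eqToHom (congrArg (fun m => (EtCoh.push (D.map m)).obj (S.obj j''.left)) h')) =
      S.L j.hom (s.left ≫ t.left) ≫ eqToHom (congrArg (fun m => (EtCoh.push (D.map m)).obj (S.obj j''.left)) h'') := by
    intro b' h b'' h' h''
    subst h; subst h'
    refine (congrArg₂ (· ≫ ·) (Category.comp_id _) (Category.comp_id _)).trans ?_
    exact S.L_L j.hom t.left s.left
  exact key _ (Over.w t) _ (Over.w s) (Over.w (s ≫ t))

theorem α_L' {i : I} (j j' : Over i) (t : j' ⟶ j) : S.α j.hom ≫ S.L' j j' t = S.α j'.hom := by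
  have key : ∀ (b' : j'.left ⟶ i) (h : t.left ≫ j.hom = b'),
      S.α j.hom ≫ (S.L j.hom t.left ≫ eqToHom (congrArg (fun m => (EtCoh.push (D.map m)).obj (S.obj j'.left)) h)) =
        S.α b' := by
    intro b' h
    subst h
    exact (congrArg (S.α j.hom ≫ ·) (Category.comp_id _)).trans (S.α_L j.hom t.left)
  exact key _ (Over.w t)

/-- the idempotent on a direct image -/
abbrev e {i : I} (j : Over i) := S.L' j j (𝟙 j)

theorem L'_sub {i : I} (j j' : Over i) (t : j' ⟶ j) :
    S.L' j j' t ≫ (𝟙 _ - S.e j') = 0 := by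
  rw [Preadditive.comp_sub, Category.comp_id, S.L'_L', Category.id_comp, sub_self]

/-- the system on a stage, cut down by the idempotents -/
abbrev stageDiag (i : I) : (Over i)ᵒᵖ ⥤ EtCoh.Ab (D.obj i) where
  obj j := kernel (𝟙 _ - S.e j.unop)
  map {j j'} t := kernel.lift _ (kernel.ι _ ≫ S.L' j.unop j'.unop t.unop)
    ((Category.assoc _ _ _).trans ((congrArg (kernel.ι _ ≫ ·) (S.L'_sub _ _ t.unop)).trans comp_zero))
  map_id j := (cancel_mono (kernel.ι _)).1 ((kernel.lift_ι _ _ _).trans (by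
    refine Eq.trans ?_ (Category.id_comp _).symm
    have h := kernel.condition (𝟙 _ - S.e j.unop)
    rw [Preadditive.comp_sub, Category.comp_id, sub_eq_zero] at h
    exact h.symm))
  map_comp {j j' j''} t s := (cancel_mono (kernel.ι _)).1 ((kernel.lift_ι _ _ _).trans (by
    refine Eq.trans ?_ (Category.assoc _ _ _).symm
    refine Eq.trans ?_ (congrArg (kernel.lift _ _ _ ≫ ·) (kernel.lift_ι _ _ _)).symm
    refine Eq.trans ?_ (Category.assoc _ _ _)
    refine Eq.trans ?_ (congrArg (· ≫ S.L' j'.unop j''.unop s.unop) (kernel.lift_ι _ _ _)).symm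
    exact (congrArg (kernel.ι _ ≫ ·) (S.L'_L' j.unop j'.unop j''.unop t.unop s.unop)).symm.trans
      (Category.assoc _ _ _).symm))

/-- projection to the cut down system -/
def proj {i : I} (j : Over i) :
    (EtCoh.push (D.map j.hom)).obj (S.obj j.left) ⟶ kernel (𝟙 _ - S.e j) :=
  kernel.lift _ (S.e j) (S.L'_sub j j (𝟙 j))

/-- the inclusion of the cut down system -/
abbrev κι {i : I} (j : Over i) :
    kernel (𝟙 ((EtCoh.push (D.map j.hom)).obj (S.obj j.left)) - S.e j) ⟶ (EtCoh.push (D.map j.hom)).obj (S.obj j.left) :=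
  kernel.ι _

theorem stageDiag_kill [∀ (i j : I) (a : i ⟶ j), IsAffineHom (D.map a)] (hi : S.LocInj) {i : I} (jo : Over i)
    (A : (D.obj i).Etale) (hA : IsAffine A.left) (r : EtCoh.sect ((S.stageDiag i).obj (op jo)) A)
    (h : (S.γ jo.hom).hom.app (op A) ((S.κι jo).hom.app (op A) r) = 0) :
    ∃ (jo' : Over i) (t : jo' ⟶ jo), ((S.stageDiag i).map t.op).hom.app (op A) r = 0 := by
  let rF : EtCoh.sect (S.obj jo.left) ((EtCoh.bc (D.map jo.hom)).obj A) :=
    (S.κι jo).hom.app (op A) r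
  have hA' : IsAffine ((EtCoh.bc (D.map jo.hom)).obj A).left := by
    haveI h' : IsAffine ((𝟭 Scheme.{u}).obj A.left) := hA
    haveI hb : IsAffineHom (D.map jo.hom) := inferInstance
    haveI hp : IsAffineHom (pullback.fst A.hom (D.map jo.hom)) :=
      MorphismProperty.pullback_fst (P := @IsAffineHom) _ _ hb
    exact @isAffine_of_isAffineHom _ _ (pullback.fst A.hom (D.map jo.hom)) hp h'
  have h1 : (S.β jo.left).hom.app (op ((EtCoh.bc (D.map jo.hom)).obj A)) rF = 0 := by
    refine EtSh.app_injective_of_mono ((θIso (c.w jo.hom)).inv.app G) (op A) (Eq.trans ?_ (map_zero _).symm)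
    exact h
  obtain ⟨l, a, ha⟩ := hi jo.left _ hA' rF h1
  refine ⟨Over.mk (a ≫ jo.hom), Over.homMk a, ?_⟩
  refine EtSh.app_injective_of_mono (S.κι (Over.mk (a ≫ jo.hom))) (op A) (Eq.trans ?_ (map_zero _).symm)
  refine (congrArg (fun m => m.hom.app (op A) r) (kernel.lift_ι (𝟙 _ - S.e (Over.mk (a ≫ jo.hom)))
    (S.κι jo ≫ S.L' jo (Over.mk (a ≫ jo.hom)) (Over.homMk a)) _)).trans ?_
  have h2 : ((EtCoh.push (D.map jo.hom)).map (S.α a)).hom.app (op A) ((S.κι jo).hom.app (op A) r) = 0 := ha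
  refine (congrArg (fun z => (eqToHom (congrArg (fun m => (EtCoh.push (D.map m)).obj (S.obj l))
    (Over.w (Over.homMk a : Over.mk (a ≫ jo.hom) ⟶ jo)))).hom.app (op A)
      (((θIso (D.map_comp a jo.hom).symm).inv.app (S.obj l)).hom.app (op A) z)) h2).trans ?_
  exact (congrArg _ (map_zero _)).trans (map_zero _)

theorem proj_γ {i : I} (j : Over i) : S.proj j ≫ S.κι j ≫ S.γ j.hom = S.γ j.hom :=
  (Category.assoc _ _ _).symm.trans ((congrArg (· ≫ S.γ j.hom) (kernel.lift_ι _ _ _)).trans (S.L'_γ j j (𝟙 j)))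

theorem proj_map {i : I} (j j' : Over i) (t : j' ⟶ j) :
    S.proj j ≫ (S.stageDiag i).map t.op ≫ S.κι j' = S.L' j j' t := by
  refine (congrArg (S.proj j ≫ ·) (kernel.lift_ι (𝟙 _ - S.e j') (S.κι j ≫ S.L' j j' t) _)).trans ?_
  refine (Category.assoc _ _ _).symm.trans ((congrArg (· ≫ S.L' j j' t) (kernel.lift_ι (𝟙 _ - S.e j) (S.e j) _)).trans ?_)
  exact (S.L'_L' j j j' (𝟙 j) t).trans (congrArg (S.L' j j') (Category.comp_id t))

end SheafSystem

end Groth.Agent.EtLimLib
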