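import Groth.Agent.EtLimLib.SystemBasic

/-!
# Cohomology of a limit of schemes with coefficients in a system of sheaves
-/

noncomputable section

set_option autoImplicit false
set_option linter.style.haveILetI false
set_option linter.unusedSectionVars false
set_option backward.isDefEq.respectTransparency.types false

universe u

open CategoryTheory CategoryTheory.Limits AlgebraicGeometry Opposite CategoryTheory.Abelian

namespace Groth.Agent.EtLimLib

variable {I : Type u} [SmallCategory I] {D : I ⥤ Scheme.{u}} {c : Cone D} {G : EtCoh.Ab c.pt} (S : SheafSystem c G)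

namespace SheafSystem

variable [IsCofiltered I] (hs : S.LocSurj) (hi : S.LocInj) [∀ (i j : I) (a : i ⟶ j), IsAffineHom (D.map a)]

/-- cocone to the limit sheaf -/
abbrev stageCocone (i : I) : Cocone (AsSmall.down.{u, u, u + 1} ⋙ S.stageDiag i) where
  pt := (EtCoh.push (c.π.app i)).obj G
  ι :=
    { app := fun j => kernel.ι _ ≫ S.γ (AsSmall.down.obj j).unop.hom
      naturality := fun j j' t => by
        refine Eq.trans ?_ (Category.comp_id _).symm
        refine (Category.assoc _ _ _).symm.trans ((congrArg (· ≫ _) (kernel.lift_ι _ _ _)).trans ?_)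
        exact (Category.assoc _ _ _).trans (congrArg (kernel.ι _ ≫ ·) (S.L'_γ _ _ _)) }

include hi in
theorem mono_desc (i : I) : Mono (colimit.desc _ (S.stageCocone i)) := by
  haveI : IsFiltered (AsSmall.{u + 1} (Over i)ᵒᵖ) := IsFiltered.of_equivalence AsSmall.equiv
  let K := AsSmall.down.{u, u, u + 1} ⋙ S.stageDiag i
  let d := colimit.desc K (S.stageCocone i)
  refine EtSh.mono_of_stalk _ fun Ω _ _ ξ => ?_
  refine (injective_iff_map_eq_zero ((EtCoh.stalk ξ).map d).hom).2 fun p hp => ?_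
  obtain ⟨j, q, rfl⟩ := EtSh.exists_germ_rep (colimit.isColimit K) ξ p
  obtain ⟨U, t, r, rfl⟩ := EtSh.germ_surjective _ q
  obtain ⟨W, g, w, hw, hz⟩ := (EtSh.germ_eq_zero_iff _ t _).1
    ((EtSh.stalk_map_germ d t ((colimit.ι K j).hom.app (op U) r)).symm.trans
      ((congrArg _ (EtSh.stalk_map_germ (colimit.ι K j) t r).symm).trans hp))
  obtain ⟨A, g', y, hA, hy⟩ := EtCechLib.exists_affine_over w
  let r' : EtCoh.sect (K.obj j) A := (K.obj j).obj.map (g' ≫ g).op r
  have h0 : ((S.stageCocone i).ι.app j).hom.app (op A) r' = 0 := by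
    refine (congrArg (fun k : K.obj j ⟶ _ => k.hom.app (op A) r') (colimit.ι_desc (S.stageCocone i) j).symm).trans ?_
    refine (congrArg (fun k => k r) ((colimit.ι K j ≫ d).hom.naturality (g' ≫ g).op)).trans ?_
    refine (congrArg (fun k => k ((colimit.ι K j ≫ d).hom.app (op U) r))
      (((EtCoh.push (c.π.app i)).obj G).obj.map_comp g.op g'.op)).trans ?_
    exact (congrArg (((EtCoh.push (c.π.app i)).obj G).obj.map g'.op) hz).trans (map_zero _)
  obtain ⟨jo', tt, hk⟩ := S.stageDiag_kill hi (AsSmall.down.obj j).unop A hA r' h0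
  let j' : AsSmall.{u + 1} (Over i)ᵒᵖ := AsSmall.up.obj (op jo')
  let s : j ⟶ j' := AsSmall.up.map tt.op
  refine (EtSh.stalk_map_germ (colimit.ι K j) t r).trans ((EtSh.germ_eq_zero_iff _ t _).2 ?_)
  refine ⟨A, g' ≫ g, y, (congrArg g.left.base hy).trans hw, ?_⟩
  refine (congrArg (fun k => k r) ((colimit.ι K j).hom.naturality (g' ≫ g).op)).symm.trans ?_
  refine (congrArg (fun m : K.obj j ⟶ _ => m.hom.app (op A) r') (colimit.w K s)).symm.trans ?_
  exact (congrArg ((colimit.ι K j').hom.app (op A)) hk).trans (map_zero _)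

include hs in
theorem epi_desc (i : I) : Epi (colimit.desc _ (S.stageCocone i)) := by
  have : Sheaf.IsLocallySurjective (colimit.desc _ (S.stageCocone i)) :=
    ⟨fun {U} s => (EtSh.mem_topology_iff _).2 fun z => by
      obtain ⟨A, g, y, hA, hy⟩ := EtCechLib.exists_affine_over z
      obtain ⟨k, b, r, hr⟩ := hs i A hA (((EtCoh.push (c.π.app i)).obj G).obj.map g.op s)
      let jo : Over i := Over.mk b
      let j : AsSmall.{u + 1} (Over i)ᵒᵖ := AsSmall.up.obj (op jo)
      refine ⟨A, g, y, ⟨(colimit.ι (AsSmall.down.{u, u, u + 1} ⋙ S.stageDiag i) j).hom.app (op A) ((S.proj jo).hom.app (op A) r), ?_⟩, hy⟩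
      refine (congrArg (fun m => m.hom.app (op A) ((S.proj jo).hom.app (op A) r))
        (colimit.ι_desc (S.stageCocone i) j)).trans ?_
      refine (congrArg (fun m : (EtCoh.push (D.map b)).obj (S.obj k) ⟶ _ => (S.γ b).hom.app (op A) (m.hom.app (op A) r))
        (kernel.lift_ι _ _ _)).trans ?_
      refine (congrArg (fun m : (EtCoh.push (D.map b)).obj (S.obj k) ⟶ _ => m.hom.app (op A) r)
        (S.L'_γ jo jo (𝟙 jo))).trans ?_
      refine (congrArg (((θIso (c.w b)).inv.app G).hom.app (op A)) (hr.trans (θIso_app (c.w b) G A _).symm)).trans ?_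
      exact congrArg (fun m : (EtCoh.push (c.π.app i)).obj G ⟶ (EtCoh.push (c.π.app i)).obj G =>
        m.hom.app (op A) (((EtCoh.push (c.π.app i)).obj G).obj.map g.op s)) ((θIso (c.w b)).hom_inv_id_app G)⟩
  exact Sheaf.epi_of_isLocallySurjective _

include hs hi in
theorem exists_H_stage (i : I) [CompactSpace (D.obj i)] [QuasiSeparatedSpace (D.obj i)] (n : ℕ) :
    (∀ x : EtCoh.H (D.obj i) ((EtCoh.push (c.π.app i)).obj G) n,
      ∃ (k : I) (b : k ⟶ i) (y : EtCoh.H (D.obj i) ((EtCoh.push (D.map b)).obj (S.obj k)) n),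
        Sheaf.H.map (S.γ b) n y = x) ∧
    (∀ (j : Over i) (y : EtCoh.H (D.obj i) ((EtCoh.push (D.map j.hom)).obj (S.obj j.left)) n),
      Sheaf.H.map (S.γ j.hom) n y = 0 → ∃ (j' : Over i) (t : j' ⟶ j), Sheaf.H.map (S.L' j j' t) n y = 0) := by
  haveI : IsFiltered (AsSmall.{u + 1} (Over i)ᵒᵖ) := IsFiltered.of_equivalence AsSmall.equiv
  let K := AsSmall.down.{u, u, u + 1} ⋙ S.stageDiag i
  let d := colimit.desc K (S.stageCocone i)
  haveI : Mono d := S.mono_desc hi i
  haveI : Epi d := S.epi_desc hs i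
  haveI : IsIso d := isIso_of_mono_of_epi d
  refine ⟨fun x => ?_, fun j y hy => ?_⟩
  · obtain ⟨j, η, hη⟩ := (EtCechLib.exists_H_rep_and_zero n K).1 (Sheaf.H.map (inv d) n x)
    refine ⟨_, (AsSmall.down.obj j).unop.hom, Sheaf.H.map (kernel.ι _) n η, ?_⟩
    refine (Sheaf.H.map_comp_apply _ _ η).symm.trans ?_
    refine (congrArg (fun m : K.obj j ⟶ _ => Sheaf.H.map m n η) (colimit.ι_desc (S.stageCocone i) j).symm).trans ?_
    refine (Sheaf.H.map_comp_apply _ _ η).trans ?_
    rw [hη, ← Sheaf.H.map_comp_apply, IsIso.inv_hom_id, Sheaf.H.map_id_apply]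
  · let jj : AsSmall.{u + 1} (Over i)ᵒᵖ := AsSmall.up.obj (op j)
    have h0 : Sheaf.H.map (colimit.ι K jj) n (Sheaf.H.map (S.proj j) n y) = 0 := by
      have hh : Sheaf.H.map (S.proj j ≫ colimit.ι K jj ≫ d) n y = 0 := by
        refine (congrArg (fun m => Sheaf.H.map m n y) ?_).trans hy
        exact (congrArg (S.proj j ≫ ·) (colimit.ι_desc (S.stageCocone i) jj)).trans (S.proj_γ j)
      rw [Sheaf.H.map_comp_apply, Sheaf.H.map_comp_apply] at hh
      have := congrArg (Sheaf.H.map (inv d) n) hh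
      rwa [← Sheaf.H.map_comp_apply, IsIso.hom_inv_id, Sheaf.H.map_id_apply, map_zero] at this
    obtain ⟨j', t, ht⟩ := (EtCechLib.exists_H_rep_and_zero n K).2 jj _ h0
    refine ⟨(AsSmall.down.obj j').unop, (AsSmall.down.map t).unop, ?_⟩
    refine (congrArg (fun m => Sheaf.H.map m n y)
      (S.proj_map j (AsSmall.down.obj j').unop (AsSmall.down.map t).unop)).symm.trans ?_
    refine (Sheaf.H.map_comp_apply (S.proj j)
      ((S.stageDiag i).map (AsSmall.down.map t) ≫ S.κι (AsSmall.down.obj j').unop) y).trans ?_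
    refine (Sheaf.H.map_comp_apply ((S.stageDiag i).map (AsSmall.down.map t)) _ (Sheaf.H.map (S.proj j) n y)).trans ?_
    exact (congrArg _ ht).trans (map_zero _)

end SheafSystem

end Groth.Agent.EtLimLib
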